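import Cfsg.Agent.Lib.SuzTypeCount11.Main

/-!
# Suzuki type: class sizes modulo `25` from the lines of a subgroup of order `25`

Owner: helper11.
-/

set_option autoImplicit false

namespace Cfsg.Agent.Lib.SuzType52

variable {G : Type*} [Group G] [Finite G]

/-- The elements of `S` centralised by `L`. -/
def cfix (S : Set G) (L : Subgroup G) : Set G := {u ∈ S | L ≤ Subgroup.centralizer ({u} : Set G)}

/-- A set stable under a group of order `25` without fixed points is, modulo `25`, the union of the fixed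
sets of the subgroups of order `5`. -/
theorem ncard_mod_sq (P : Subgroup G) (hP : Nat.card P = 25) (S : Set G)
    (hS : ∀ g ∈ P, ∀ u ∈ S, g * u * g⁻¹ ∈ S)
    (hfix : ∀ u ∈ S, ¬ P ≤ Subgroup.centralizer ({u} : Set G))
    (Ls : Finset (Subgroup G)) (hLs : ∀ L, L ∈ Ls ↔ L ≤ P ∧ Nat.card L = 5) :
    S.ncard % 25 = (∑ L ∈ Ls, (cfix S L).ncard) % 25 := by
  classical
  have := Fintype.ofFinite G
  have : Fact (Nat.Prime 5) := ⟨by norm_num⟩
  -- the points fixed by some line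
  set F : Finset G := Ls.biUnion fun L => (Set.toFinite (cfix S L)).toFinset with hF
  have hFcard : F.card = ∑ L ∈ Ls, (cfix S L).ncard := by
    rw [hF, Finset.card_biUnion]
    · exact Finset.sum_congr rfl fun L _ => (Set.ncard_eq_toFinset_card _).symm
    · intro L hL M hM hne
      rw [Function.onFun, Finset.disjoint_left]
      intro u hu hu'
      rw [Set.Finite.mem_toFinset] at hu hu'
      refine hfix u hu.1 ?_
      obtain ⟨hLP, hL5⟩ := (hLs L).1 hL
      obtain ⟨hMP, hM5⟩ := (hLs M).1 hM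
      have hlt : L < L ⊔ M := lt_of_le_not_ge le_sup_left fun h => hne (by
        have hML : M ≤ L := le_sup_right.trans h
        exact (Subgroup.eq_of_le_of_card_ge hML (by rw [hL5, hM5])).symm)
      have hle : L ⊔ M ≤ P := sup_le hLP hMP
      have h25 : Nat.card ↥(L ⊔ M) = 25 := by
        have hd : Nat.card ↥(L ⊔ M) ∣ 5 ^ 2 := by
          have := Subgroup.card_dvd_of_le hle
          rwa [hP] at this
        obtain ⟨i, hi, e⟩ := (Nat.dvd_prime_pow (by norm_num)).1 hd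
        have hgt : 5 < Nat.card ↥(L ⊔ M) := by
          rw [← hL5]
          by_contra h
          exact hlt.ne (Subgroup.eq_of_le_of_card_ge le_sup_left (not_lt.1 h))
        interval_cases i <;> simp_all
      rw [← Subgroup.eq_of_le_of_card_ge hle (by rw [h25, hP])]
      exact sup_le hu.2 hu'.2
  -- the free part
  have hFsub : (F : Set G) ⊆ S := fun u hu => by
    obtain ⟨L, -, hL⟩ := Finset.mem_biUnion.1 (Finset.mem_coe.1 hu)
    exact ((Set.Finite.mem_toFinset _).1 hL).1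
  set T : Set G := S \ F with hT
  have hstab : ∀ g ∈ P, ∀ u ∈ T, g * u * g⁻¹ ∈ T := by
    intro g hg u hu
    refine ⟨hS g hg u hu.1, fun hm => hu.2 ?_⟩
    rw [Finset.mem_coe, hF, Finset.mem_biUnion] at hm ⊢
    obtain ⟨L, hL, hm⟩ := hm
    obtain ⟨hLP, hL5⟩ := (hLs L).1 hL
    refine ⟨L, hL, ?_⟩
    rw [Set.Finite.mem_toFinset] at hm ⊢
    refine ⟨hu.1, fun l hl => ?_⟩
    have hcomm : Commute g l := by
      have hab : IsMulCommutative P := IsPGroup.isMulCommutative_of_card_eq_prime_sq (by rw [hP]; norm_num : Nat.card P = 5 ^ 2)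
      exact congrArg Subtype.val (hab.is_comm.comm ⟨g, hg⟩ ⟨l, hLP hl⟩)
    have h1 := Subgroup.mem_centralizer_singleton_iff.1 (hm.2 hl)
    refine Subgroup.mem_centralizer_singleton_iff.2 (mul_left_cancel (a := g) (mul_right_cancel (b := g⁻¹) ?_))
    calc g * (l * u) * g⁻¹ = l * (g * u * g⁻¹) := by rw [← mul_assoc g, hcomm.eq]; group
      _ = g * u * g⁻¹ * l := h1
      _ = g * (u * l) * g⁻¹ := by rw [← mul_assoc g u l, mul_assoc (g * u) l, ← hcomm.inv_left.eq]; group
  letI : MulAction P T :=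
    { smul := fun g u => ⟨g.1 * u.1 * g.1⁻¹, hstab g.1 g.2 u.1 u.2⟩
      one_smul := fun u => Subtype.ext (by show (1 : G) * u.1 * (1 : G)⁻¹ = u.1; group)
      mul_smul := fun g h u => Subtype.ext (by
        show (g.1 * h.1) * u.1 * (g.1 * h.1)⁻¹ = g.1 * (h.1 * u.1 * h.1⁻¹) * g.1⁻¹; group) }
  have hfree : ∀ u : T, MulAction.stabilizer P u = ⊥ := by
    intro u
    refine (Subgroup.eq_bot_iff_forall _).2 fun g hg => by_contra fun hne => ?_
    obtain ⟨L, hLP, hL5, hLg⟩ : ∃ L : Subgroup G, L ≤ P ∧ Nat.card L = 5 ∧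
        L ≤ Subgroup.zpowers (g : G) := by
      have hd : orderOf (g : G) ∣ 5 ^ 2 := by
        rw [Subgroup.orderOf_coe, show (5 : ℕ) ^ 2 = Nat.card P by rw [hP]; norm_num]
        exact orderOf_dvd_natCard g
      have h5 : 5 ∣ Nat.card (Subgroup.zpowers (g : G)) := by
        rw [Nat.card_zpowers]
        obtain ⟨i, hi, e⟩ := (Nat.dvd_prime_pow (by norm_num)).1 hd
        rcases i with _ | i
        · exact absurd (Subtype.ext (orderOf_eq_one_iff.1 (by simpa using e))) hne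
        · exact e ▸ dvd_pow_self 5 (Nat.succ_ne_zero i)
      obtain ⟨y, hy⟩ := exists_prime_orderOf_dvd_card' 5 h5
      exact ⟨Subgroup.zpowers (y : G), Subgroup.zpowers_le.2 (Subgroup.zpowers_le.2 g.2 y.2),
        by rw [Nat.card_zpowers, Subgroup.orderOf_coe, hy], Subgroup.zpowers_le.2 y.2⟩
    refine u.2.2 ?_
    rw [Finset.mem_coe, hF, Finset.mem_biUnion]
    refine ⟨L, (hLs L).2 ⟨hLP, hL5⟩, ?_⟩
    rw [Set.Finite.mem_toFinset]
    refine ⟨u.2.1, hLg.trans (Subgroup.zpowers_le.2 ?_)⟩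
    have he : (g : G) * u.1 * (g : G)⁻¹ = u.1 := congrArg Subtype.val (MulAction.mem_stabilizer_iff.1 hg)
    exact Subgroup.mem_centralizer_singleton_iff.2 (mul_inv_eq_iff_eq_mul.1 he)
  have hT25 : 25 ∣ T.ncard := by
    refine ⟨Nat.card (Quotient (MulAction.orbitRel P T)), ?_⟩
    rw [← Nat.card_coe_set_eq, Nat.card_congr (MulAction.selfEquivOrbitsQuotientProd hfree),
      Nat.card_prod, hP, mul_comm]
  have e := Set.ncard_sdiff_add_ncard_of_subset hFsub
  rw [Set.ncard_coe_finset, hFcard] at e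
  rw [← e]
  obtain ⟨k, hk⟩ := hT25
  rw [← hT, hk, Nat.mul_add_mod]

namespace Duo

variable {z : G} {Q : Subgroup G} {co : G → ℕ} {ac : G → ℕ → ℕ} {x n : G}
  (d : Duo z Q co ac x n) {b : G} (hb : Form Q co ac n z b 16 32) (hb2 : b * b = 1) (hbQ : b ∉ Q)
include d hb hb2 hbQ

/-- The number of lines of the second type is `3` modulo `5`. -/
theorem lines_count (P : Subgroup G) (hP : Nat.card P = 25)
    (hfix : ∀ t : G, t * t = 1 → t ≠ 1 → ¬ P ≤ Subgroup.centralizer ({t} : Set G))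
    (A B Ls : Finset (Subgroup G)) (hLs : ∀ L, L ∈ Ls ↔ L ≤ P ∧ Nat.card L = 5) (hA : A ⊆ Ls) (hB : B ⊆ Ls)
    (hA5 : ¬ 5 ∣ A.card) (hB5 : ¬ 5 ∣ B.card)
    (hAz : ∀ L ∈ A, (cfix {u | IsConj z u} L).ncard = 45)
    (hnz : ∀ L ∈ Ls, L ∉ A → cfix {u | IsConj z u} L = ∅)
    (hBw : ∀ L ∈ B, (cfix {u | IsConj b u} L).ncard = 15)
    (hnw : ∀ L ∈ Ls, L ∉ B → cfix {u | IsConj b u} L = ∅) : B.card % 5 = 3 := by
  obtain ⟨hb1, -, -⟩ := d.b_type hb hb2 hbQ
  have key : ∀ (a : G), a * a = 1 → a ≠ 1 → ∀ (M : Finset (Subgroup G)) (m : ℕ), M ⊆ Ls →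
      (∀ L ∈ M, (cfix {u | IsConj a u} L).ncard = m) →
      (∀ L ∈ Ls, L ∉ M → cfix {u | IsConj a u} L = ∅) →
      Nat.card {u : G // IsConj a u} % 25 = M.card * m % 25 := by
    intro a ha ha1 M m hM hm hn
    have e := ncard_mod_sq P hP {u | IsConj a u} (fun g _ u hu => (isConj_iff_conj g u).2 hu)
      (fun u hu => hfix u (sq_of_isConj ha ha1 hu).1 (sq_of_isConj ha ha1 hu).2) Ls hLs
    rw [← Finset.sum_subset hM (fun L hL hLn => by rw [hn L hL hLn, Set.ncard_empty]),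
      Finset.sum_congr rfl hm, Finset.sum_const, smul_eq_mul] at e
    rw [← e]
    exact congrArg (· % 25) (Nat.card_coe_set_eq {u | IsConj a u})
  refine d.five_count hb hb2 hbQ hA5 hB5 ?_ ?_
  · rw [key z d.fr.es.sq d.fr.es.ne A 45 hA hAz hnz]
    omega
  · rw [key b hb2 hb1 B 15 hB hBw hnw]
    omega

end Duo

end Cfsg.Agent.Lib.SuzType52
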