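import Cfsg.Agent.Lib.SuzTypeCount11.Types
import Cfsg.Agent.Lib.Involutions.Basic

/-!
# Suzuki type: when `z` is the involution of a product of two involutions of `C(z)`

Owner: helper11.
-/

set_option autoImplicit false

namespace Cfsg.Agent.Lib.SuzType52

open Cfsg.Agent.Lib.Involutions.Basic

variable {G : Type*} [Group G] [Finite G]

theorem orderOf_two {t : G} (h : t * t = 1) (h1 : t ≠ 1) : orderOf t = 2 := invol_iff.2 ⟨h, h1⟩

theorem z_mem_iff {g t z : G} (hz : orderOf z = 2) (ht : orderOf t = 2)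
    (htm : t ∈ Subgroup.zpowers g) : z ∈ Subgroup.zpowers g ↔ z = t :=
  ⟨fun h => (invol_unique_zpowers hz h).2.trans (invol_unique_zpowers ht htm).2.symm, fun e => e ▸ htm⟩

theorem z_mem_iff_sq {g z c : G} (hz : orderOf z = 2) (hc : g * g = c) (hc2 : c * c = 1) :
    z ∈ Subgroup.zpowers g ↔ (c ≠ 1 ∧ z = c) ∨ (c = 1 ∧ z = g) := by
  by_cases h : c = 1
  · subst h
    by_cases hg : g = 1
    · subst hg
      simp [Subgroup.zpowers_one_eq_bot, invol_ne_one hz]
    · rw [z_mem_iff hz (orderOf_two hc hg) (Subgroup.mem_zpowers g)]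
      simp
  · rw [z_mem_iff hz (orderOf_two hc2 h) (hc ▸ mul_mem (Subgroup.mem_zpowers g) (Subgroup.mem_zpowers g))]
    simp [h]

omit [Finite G] in
theorem mul_sq_com {u b : G} (hu : u * u = 1) (hb : b * b = 1) : u * b * (u * b) = com u b := by
  simp only [com]
  rw [inv_eq_of_mul_eq_one_right hu, inv_eq_of_mul_eq_one_right hb, ← mul_assoc]

theorem gq_zero : ∀ v ∈ v4, gX (16, 32) (0, v) = bn 16 v ∧
    gZ (16, 32) (0, v) = Bool.xor (bn 16 v) (bn 32 v) := by decide +kernel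

theorem ns4_ne : ∀ p ∈ pB, p.1 ≠ 16 := by decide +kernel

theorem b1_two : ∀ v ∈ v4, ∀ w ∈ v4, (v = 0 ∨ v = w) → w ≠ 0 →
    (v ^^^ w = 0 ↔ v = w) ∧ (v = w ↔ v ≠ 0) := by decide +kernel

namespace Duo

variable {z : G} {Q : Subgroup G} {co : G → ℕ} {ac : G → ℕ → ℕ} {x n : G}
  (d : Duo z Q co ac x n)
include d

omit [Finite G] in
theorem ee_one_iff {i j : Bool} : ee z x i j = 1 ↔ i = false ∧ j = false :=
  ⟨fun e => d.ee_inj (e.trans d.ee_zero.symm), fun ⟨e1, e2⟩ => by rw [e1, e2]; exact d.ee_zero⟩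

omit [Finite G] in
theorem ee_z_iff {i j : Bool} : z = ee z x i j ↔ i = false ∧ j = true := by
  have hz : ee z x false true = z := one_mul z
  exact ⟨fun e => d.ee_inj (e.symm.trans hz.symm), fun ⟨e1, e2⟩ => by rw [e1, e2, hz]⟩

omit [Finite G] in
theorem inB_iff {t : G} {a v : ℕ} (ha : a ∈ v4) (h : Form Q co ac n z t a v) :
    InB Q n z t ↔ v = 0 := by
  constructor
  · intro hB
    exact (d.form_inj ha ha h (d.form_of_inB hB (d.form_commute h).2)).2
  · rintro rfl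
    obtain ⟨u, hu, hua⟩ := d.lift a ha
    obtain ⟨i, j, rfl⟩ := d.form_eq ha (d.form_of_inB hu hua) h
    exact ⟨d.P_mul hu.1 (d.ee_inB i j).1, hu.2.mul_left (d.ee_inB i j).2⟩

omit [Finite G] in
theorem inB_conj {t c : G} (hc : Commute c z) (hcx : Commute c x) (ht : InB Q n z t) :
    InB Q n z (c * t * c⁻¹) :=
  ⟨d.P_conj hcx ht.1, (hc.mul_left ht.2).mul_left hc.inv_left⟩

/-- The criterion for two products. -/
theorem z_mem_forms {t t' : G} {p q : ℕ × ℕ} (hp : p.1 ∈ v4) (hq : q.1 ∈ v4)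
    (h : Form Q co ac n z t p.1 p.2) (h' : Form Q co ac n z t' q.1 q.2) (ht : t * t = 1) (ht' : t' * t' = 1) :
    z ∈ Subgroup.zpowers (t * t') ↔
      (gX p q = false ∧ gZ p q = true) ∨ (gX p q = false ∧ gZ p q = false ∧ z = t * t') := by
  rw [z_mem_iff_sq d.fr.ord ((mul_sq_com ht ht').trans (d.form_com hp hq h h')) (d.ee_sq _ _),
    d.ee_z_iff, ne_eq, d.ee_one_iff]
  cases gX p q <;> cases gZ p q <;> simp

variable {b : G} (hb : Form Q co ac n z b 16 32) (hb2 : b * b = 1) (hbQ : b ∉ Q)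

omit [Finite G] in
include hb in
/-- The effect of `b` on the involutions of `Q` over fixed points. -/
theorem b_conj_fixed {y : G} {k : ℕ} (hy : y ∈ Q) (hk : co y = k) (hs : k ∈ sing) (hf : eich 16 k = k) :
    b * y * b⁻¹ = y * pw z (bn 32 k) := by
  subst hk
  obtain ⟨h1, h2, h3⟩ := sing_fixed_b1 _ hs hf
  have hv := mem_v4 (d.fr.co_lt y hy)
  have hF := d.form_Q hy h1
  have e := d.form_com (p := (16, 32)) (q := (0, co y &&& 60)) (show (16 : ℕ) ∈ v4 by decide)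
    (show (0 : ℕ) ∈ v4 by decide) hb hF
  obtain ⟨g1, g2⟩ := gq_zero _ hv
  rw [g1, g2, h2, h3, Bool.false_xor] at e
  calc b * y * b⁻¹ = com b y * y := by simp only [com]; group
    _ = y * pw z (bn 32 (co y)) := by
      rw [e, show ee z x false (bn 32 (co y)) = pw z (bn 32 (co y)) from one_mul _]
      cases bn 32 (co y)
      · simp [pw]
      · exact (d.fr.es.comm y hy).eq.symm

omit [Finite G] in
include hb in
theorem b_fixed_iff {s : ℕ} (hs : s ∈ sing) : ac b s = s ↔ s ∈ fix16 := by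
  rw [(d.form_commute hb).2 s (mem_sing.1 hs).1]
  exact mem_fix16 s hs

include hb in
theorem b_line {i j : ℕ} (hi : i ∈ sing) (hj : j ∈ sing) (hne : i ≠ j) (hbn : bn i j = false)
    (h1 : ac b i ∈ [i, j, i ^^^ j]) (h2 : ac b j ∈ [i, j, i ^^^ j]) : (1 : ℕ) ∈ [i, j, i ^^^ j] := by
  rw [(d.form_commute hb).2 i (mem_sing.1 hi).1] at h1
  rw [(d.form_commute hb).2 j (mem_sing.1 hj).1] at h2
  exact inv_line i hi j hj hne hbn h1 h2

/-- An involution permuting the three points of a line fixes one of them. -/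
theorem exists_fixed_line {f : G} (hf : Commute f z) (hf2 : f * f = 1) {i j : ℕ} (hi : i ∈ sing)
    (hj : j ∈ sing) (hij : i ^^^ j ∈ sing)
    (h1 : ac f i ∈ [i, j, i ^^^ j]) : ∃ r ∈ [i, j, i ^^^ j], ac f r = r := by
  obtain ⟨li, -⟩ := mem_sing.1 hi
  obtain ⟨lj, -⟩ := mem_sing.1 hj
  obtain ⟨lij, -⟩ := mem_sing.1 hij
  have hinv : ∀ k < 64, ac f (ac f k) = k := fun k hk => by
    rw [← d.fr.ac_mul hf hf hk, hf2, d.fr.ac_Q (one_mem Q) hk]
  simp only [List.mem_cons, List.not_mem_nil, or_false] at h1 ⊢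
  rcases h1 with e | e | e
  · exact ⟨i, Or.inl rfl, e⟩
  · refine ⟨_, Or.inr (Or.inr rfl), ?_⟩
    have e' : ac f j = i := by rw [← e, hinv i li]
    rw [d.fr.ac_xor hf li lj, e, e', Nat.xor_comm]
  · refine ⟨_, Or.inr (Or.inl rfl), ?_⟩
    have e' : ac f (i ^^^ j) = i := by rw [← e, hinv i li]
    have hjj : j = i ^^^ (i ^^^ j) := by rw [← Nat.xor_assoc, Nat.xor_self, Nat.zero_xor]
    conv_lhs => rw [hjj, d.fr.ac_xor hf li lij, e, e']
    rw [Nat.xor_comm (i ^^^ j) i, ← hjj]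

include hb hb2 hbQ in
/-- If `z` is not the involution of `u b` then some point of `u` is fixed by `b`. -/
theorem good_or_fix {u : G} (hu : u ∈ Bset z Q) (hnz : z ∉ Subgroup.zpowers (u * b)) :
    ∃ s ∈ fix16, Cen (ac u) s := by
  obtain ⟨hconj, huz, huQ⟩ := id hu
  obtain ⟨hu2, hu1⟩ := sq_of_isConj d.fr.zsq d.fr.es.ne hconj
  have hbz := (d.form_commute hb).1
  have hb1 : b ≠ 1 := fun e => hbQ (e ▸ one_mem Q)
  have hev := even_of_not_isConj (orderOf_two hu2 hu1) (orderOf_two hb2 hb1)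
    fun e => d.not_isConj hb hb2 hbQ (hconj.trans e)
  obtain ⟨ht, htu, htb⟩ := central_invol (orderOf_two hu2 hu1) (orderOf_two hb2 hb1) hev
  set t := (u * b) ^ (orderOf (u * b) / 2) with htdef
  have htz : Commute t z := (huz.mul_left hbz).pow_left _
  have ht2 := invol_mul_self ht
  have htne : t ≠ z := fun e => hnz (e ▸ Subgroup.npow_mem_zpowers _ _)
  obtain ⟨i, hi, j, hj, hij, hne, hbn, hline⟩ := d.Bset_line hu
  have hfix : ∀ s ∈ sing, ac u s = s → Cen (ac u) s := fun s hs e => (hline s hs).1.2 ((hline s hs).2.1 e)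
  by_cases htQ : t ∈ Q
  · have hs : co t ∈ sing := by
      refine mem_sing.2 ⟨d.fr.co_lt t htQ, fun e => ?_, ?_⟩
      · rcases d.fr.co_zero t htQ e with e | e
        · exact invol_ne_one ht e
        · exact htne e
      · have e := d.fr.sq t htQ
        rw [ht2] at e
        cases h : qn (co t) with
        | false => rfl
        | true => rw [h] at e; exact absurd e.symm d.fr.es.ne
    have key : ∀ {g : G}, Commute g z → Commute t g → ac g (co t) = co t := fun hg hc => by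
      rw [← d.fr.conj _ hg t htQ, mul_inv_eq_iff_eq_mul.2 hc.eq.symm]
    exact ⟨co t, (d.b_fixed_iff hb hs).1 (key hbz htb), hfix _ hs (key huz htu)⟩
  by_cases htr : Tr (ac t)
  · have htB : t ∈ Bset z Q := ⟨(d.isConj_iff_tr htz ht2 htQ).2 htr, htz, htQ⟩
    obtain ⟨i', hi', j', hj', hij', hne', hbn', hl'⟩ := d.Bset_line htB
    have perm : ∀ {g : G}, Commute g z → Commute t g → ∀ s ∈ sing, s ∈ [i', j', i' ^^^ j'] →
        ac g s ∈ [i', j', i' ^^^ j'] := fun hg hc s hs hm =>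
      (hl' _ (d.fr.sing_ac hg hs)).1.1 (d.fr.cen_commute htz hg hc.symm ((hl' s hs).1.2 hm))
    have h1 := d.b_line hb hi' hj' hne' hbn' (perm hbz htb i' hi' (by simp))
      (perm hbz htb j' hj' (by simp))
    have hC1 : Cen (ac t) 1 := (hl' 1 (by decide)).1.2 h1
    obtain ⟨p, hp, hF⟩ : t ∈ fset Q co ac n z pB := d.Bset_one ▸ (⟨htB, hC1⟩ : t ∈ {u ∈ Bset z Q | Cen (ac u) 1})
    obtain ⟨ha, -, ha0, hq, -⟩ := pB_spec p hp
    have h16 : (16 : ℕ) ∈ v4 := by decide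
    have e := d.form_com (p := p) (q := (16, 32)) ha h16 hF hb
    rw [show com t b = 1 from mul_inv_eq_one.2 (mul_inv_eq_iff_eq_mul.2 htb.eq)] at e
    obtain ⟨e1, e2⟩ := d.ee_one_iff.1 e.symm
    obtain ⟨f1, f2, f3⟩ := pB_line_fixed p hp (pB_commute p hp e1 e2)
    obtain ⟨r, hr, hru⟩ := d.exists_fixed_line huz hu2 hi' hj' hij' (perm huz htu i' hi' (by simp))
    have hrs : r ∈ sing := by
      simp only [List.mem_cons, List.not_mem_nil, or_false] at hr
      rcases hr with rfl | rfl | rfl <;> assumption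
    refine ⟨r, ?_, hfix r hrs hru⟩
    have hm := (eich_cen_sing _ ha ha0 hq r hrs).1.1
      ((Cen.congr (d.form_commute hF).2 r).1 ((hl' r hrs).1.2 hr))
    simp only [List.mem_cons, List.not_mem_nil, or_false] at hm
    rcases hm with rfl | rfl | rfl <;> assumption
  · obtain ⟨c, hc, hcu⟩ := d.fr.centre htz ht2 htQ htr
    have key : ∀ {g : G}, Commute g z → Commute t g → ac g c = c := fun hg hc' =>
      (hcu _ (d.fr.sing_ac hg hc)).1 (d.fr.cen_commute htz hg hc'.symm ((hcu c hc).2 rfl))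
    exact ⟨c, (d.b_fixed_iff hb hc).1 (key hbz htb), hfix c hc (key huz htu)⟩

include hb hb2 in
/-- The criterion at a fixed point other than the centre. -/
theorem fix_good {u : G} (hu : u ∈ Bset z Q) (h1 : ¬ Cen (ac u) 1) {s : ℕ} (hs : s ∈ fix16)
    (hCs : Cen (ac u) s) : z ∈ Subgroup.zpowers (u * b) ↔ bn 32 s = true := by
  obtain ⟨hss, hfs, -⟩ := fix16_sing s hs
  obtain ⟨ls, ls0, lsq⟩ := mem_sing.1 hss
  obtain ⟨y, hy, hys⟩ := d.fr.co_surj s ls
  obtain ⟨c, hc, hcy⟩ := d.exists_to_x hy (hys ▸ ls0) (hys ▸ lsq)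
  have hcs : ac c s = 1 := by rw [← hys, ← d.fr.conj c hc y hy, hcy, d.cox]
  obtain ⟨hconj, huz, huQ⟩ := id hu
  obtain ⟨hu2, -⟩ := sq_of_isConj d.fr.zsq d.fr.es.ne hconj
  have hbz := (d.form_commute hb).1
  have hbi : b⁻¹ = b := inv_eq_of_mul_eq_one_right hb2
  set u' := b * u * b⁻¹ with hu'def
  have hu' : u' ∈ Bset z Q := d.fr.Bset_conj b hbz u hu
  have hu'2 := (sq_of_isConj d.fr.zsq d.fr.es.ne hu'.1).1
  have hC's : Cen (ac u') s := by
    have := d.fr.cen_conj huz hbz hCs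
    rwa [(d.b_fixed_iff hb hss).2 hs] at this
  have hUB : c * u * c⁻¹ ∈ fset Q co ac n z pB :=
    d.Bset_one ▸ (⟨d.fr.Bset_conj c hc u hu, hcs ▸ d.fr.cen_conj huz hc hCs⟩ :
      c * u * c⁻¹ ∈ {u ∈ Bset z Q | Cen (ac u) 1})
  have hU'B : c * u' * c⁻¹ ∈ fset Q co ac n z pB :=
    d.Bset_one ▸ (⟨d.fr.Bset_conj c hc u' hu', hcs ▸ d.fr.cen_conj hu'.2.1 hc hC's⟩ :
      c * u' * c⁻¹ ∈ {u ∈ Bset z Q | Cen (ac u) 1})
  obtain ⟨p, hp, hFU⟩ := hUB
  obtain ⟨q, hq, hFU'⟩ := hU'B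
  obtain ⟨hpa, hpv, hpa0, -, hpv', -, -⟩ := pB_spec p hp
  obtain ⟨hqa, hqv, hqa0, -, hqv', -, -⟩ := pB_spec q hq
  have hne : p.1 ≠ q.1 := by
    intro e
    refine h1 ?_
    obtain ⟨i, hi, j, hj, hij, hne, hbn, hl⟩ := d.Bset_line hu
    have hsame : ∀ r, Cen (ac u') r → Cen (ac u) r := fun r hr => by
      have hr1 := d.fr.cen_conj hu'.2.1 hc hr
      rw [Cen.congr (d.form_commute hFU').2, ← e, ← Cen.congr (d.form_commute hFU).2] at hr1
      have := d.fr.cen_conj (d.form_commute hFU).1 hc.inv_left hr1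
      rwa [show c⁻¹ * (c * u * c⁻¹) * c⁻¹⁻¹ = u by group, d.fr.ac_inv hc (mem_sing.1 hr.1).1] at this
    have perm : ∀ r ∈ sing, r ∈ [i, j, i ^^^ j] → ac b r ∈ [i, j, i ^^^ j] := fun r hr hm =>
      (hl _ (d.fr.sing_ac hbz hr)).1.1 (hsame _ (d.fr.cen_conj huz hbz ((hl r hr).1.2 hm)))
    exact (hl 1 (by decide)).1.2 (d.b_line hb hi hj hne hbn (perm i hi (by simp)) (perm j hj (by simp)))
  set b' := c * b * c⁻¹ with hb'def
  have hb'z : Commute b' z := (hc.mul_left hbz).mul_left hc.inv_left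
  have hb'2 : b' * b' = 1 := by
    calc b' * b' = c * (b * b) * c⁻¹ := by rw [hb'def]; group
      _ = 1 := by rw [hb2]; group
  have hb'x : b' * x * b'⁻¹ = x * pw z (bn 32 s) := by
    calc b' * x * b'⁻¹ = c * (b * y * b⁻¹) * c⁻¹ := by rw [hb'def, ← hcy]; group
      _ = c * y * c⁻¹ * (c * pw z (bn 32 s) * c⁻¹) := by rw [d.b_conj_fixed hb hy hys hss hfs]; group
      _ = x * pw z (bn 32 s) := by
        rw [hcy]
        congr 1
        cases bn 32 s
        · simp [pw]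
        · exact mul_inv_eq_iff_eq_mul.2 hc.eq
  have hU' : b' * (c * u * c⁻¹) * b'⁻¹ = c * u' * c⁻¹ := by rw [hb'def, hu'def]; group
  have hU : b' * (c * u' * c⁻¹) * b'⁻¹ = c * u * c⁻¹ := by
    rw [← hU', inv_eq_of_mul_eq_one_right hb'2,
      show b' * (b' * (c * u * c⁻¹) * b') * b' = (b' * b') * (c * u * c⁻¹) * (b' * b') by group, hb'2,
      one_mul, mul_one]
  obtain ⟨k1, k2⟩ := pB_com p hp q hq hne
  have hUU : c * u * c⁻¹ * (c * u * c⁻¹) = 1 := by
    calc _ = c * (u * u) * c⁻¹ := by group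
      _ = 1 := by rw [hu2]; group
  have hU'U' : c * u' * c⁻¹ * (c * u' * c⁻¹) = 1 := by
    calc _ = c * (u' * u') * c⁻¹ := by group
      _ = 1 := by rw [hu'2]; group
  -- the fourth power of `u b`
  have hpow : (u * b) * (u * b) * ((u * b) * (u * b)) = c⁻¹ * ee z x (gX p q) (gZ p q) * c := by
    rw [← d.form_com hpa hqa hFU hFU', ← mul_sq_com hUU hU'U', hu'def, hbi]
    group
  have hmem : (u * b) * (u * b) * ((u * b) * (u * b)) ∈ Subgroup.zpowers (u * b) :=
    mul_mem (mul_mem (Subgroup.mem_zpowers _) (Subgroup.mem_zpowers _))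
      (mul_mem (Subgroup.mem_zpowers _) (Subgroup.mem_zpowers _))
  rw [hpow] at hmem
  have hord : ee z x (gX p q) (gZ p q) ≠ 1 → orderOf (c⁻¹ * ee z x (gX p q) (gZ p q) * c) = 2 := by
    intro he
    refine orderOf_two ?_ fun e => he ?_
    · calc _ = c⁻¹ * (ee z x (gX p q) (gZ p q) * ee z x (gX p q) (gZ p q)) * c := by group
        _ = 1 := by rw [d.ee_sq]; group
    · calc ee z x (gX p q) (gZ p q) = c * (c⁻¹ * ee z x (gX p q) (gZ p q) * c) * c⁻¹ := by group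
        _ = 1 := by rw [e]; group
  have hzc : ∀ g, (z = c⁻¹ * g * c ↔ z = g) := fun g => by
    have e : c * z * c⁻¹ = z := mul_inv_eq_iff_eq_mul.2 hc.eq
    constructor
    · intro h
      calc z = c * z * c⁻¹ := e.symm
        _ = g := by rw [h]; group
    · intro h
      calc z = c⁻¹ * (c * z * c⁻¹) * c := by group
        _ = c⁻¹ * g * c := by rw [e, h]
  cases hε : bn 32 s with
  | false =>
    rw [hε] at hb'x
    have hcx : Commute b' x := mul_inv_eq_iff_eq_mul.1 (hb'x.trans (mul_one x))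
    have hiff : p.2 = 0 ↔ q.2 = 0 := by
      rw [← d.inB_iff hpa hFU, ← d.inB_iff hqa hFU']
      exact ⟨fun h => hU' ▸ d.inB_conj hb'z hcx h, fun h => hU ▸ d.inB_conj hb'z hcx h⟩
    have hX := k1 hiff
    have hne1 : ee z x (gX p q) (gZ p q) ≠ 1 := fun e => by
      rw [(d.ee_one_iff.1 e).1] at hX
      cases hX
    rw [z_mem_iff d.fr.ord (hord hne1) hmem, hzc, d.ee_z_iff, hX]
    simp
  | true =>
    rw [hε] at hb'x
    obtain ⟨w, hw, hwc⟩ := d.fr.co_surj 2 (by norm_num)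
    have hwz := d.fr.es.comm w hw
    set b'' := w * b' with hb''def
    have hb''z : Commute b'' z := hwz.mul_left hb'z
    have hcx : Commute b'' x := by
      refine mul_inv_eq_iff_eq_mul.1 ?_
      calc b'' * x * b''⁻¹ = w * (b' * x * b'⁻¹) * w⁻¹ := by rw [hb''def]; group
        _ = w * x * w⁻¹ * (w * z * w⁻¹) := by rw [hb'x]; simp only [pw, cond_true]; group
        _ = x := by
          rw [d.xz_conj hw hwc, mul_inv_eq_iff_eq_mul.2 hwz.eq, mul_assoc, d.fr.es.sq, mul_one]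
    have hF'' := d.form_shift hqa hFU' hw hwc
    rw [← hU', show w * (b' * (c * u * c⁻¹) * b'⁻¹) * w⁻¹ = b'' * (c * u * c⁻¹) * b''⁻¹ by
      rw [hb''def]; group] at hF''
    obtain ⟨g1, g2⟩ := b1_two _ hqv _ hqa hqv' hqa0
    have hiff : p.2 = 0 ↔ q.2 ≠ 0 := by
      rw [← g2, ← g1, ← d.inB_iff hpa hFU, ← d.inB_iff hqa hF'']
      refine ⟨fun h => d.inB_conj hb''z hcx h, fun h => ?_⟩
      have := d.inB_conj hb''z.inv_left hcx.inv_left h
      rwa [show b''⁻¹ * (b'' * (c * u * c⁻¹) * b''⁻¹) * b''⁻¹⁻¹ = c * u * c⁻¹ by group] at this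
    have hnn : ¬(p.2 = 0 ↔ q.2 = 0) := fun h => (iff_not_self (h.symm.trans hiff))
    obtain ⟨hX, hZ⟩ := k2 hnn
    have hne1 : ee z x (gX p q) (gZ p q) ≠ 1 := fun e => by
      rw [(d.ee_one_iff.1 e).2] at hZ
      cases hZ
    rw [z_mem_iff d.fr.ord (hord hne1) hmem, hzc, d.ee_z_iff, hX, hZ]
    simp

end Duo

end Cfsg.Agent.Lib.SuzType52
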