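import Cfsg.Agent.Lib.SuzTypeCount11.Near

/-!
# Suzuki type: the pairs of involutions with the second involution in the group of their product

Owner: helper11.
-/

set_option autoImplicit false

namespace Cfsg.Agent.Lib.SuzType52

open Cfsg.Agent.Lib.Involutions.Basic

theorem pD_zero : ∀ v ∈ v4, bn 0 v = false ∧ gX (0, 0) (16, 32) = false ∧ gZ (0, 0) (16, 32) = false := by
  decide +kernel

theorem pD_row : ∀ p ∈ pD, (pD.filter fun q => !(gX p q) && gZ p q).length = 1 := by decide +kernel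

theorem pD_row_zero : (pD.filter fun q => !(gX (0, 0) q) && gZ (0, 0) q).length = 0 := by decide +kernel

/-- Counting a relation by its second coordinate. -/
theorem pairs_const {α β : Type*} [Finite α] [Finite β] (P : α → β → Prop) (B : Set β) {m : ℕ}
    (hB : ∀ a b, P a b → b ∈ B) (hm : ∀ b ∈ B, {a | P a b}.ncard = m) :
    Nat.card {p : α × β // P p.1 p.2} = B.ncard * m := by
  classical
  have := Fintype.ofFinite ↥B
  have e : {p : α × β // P p.1 p.2} ≃ Σ b : ↥B, {a // P a b.1} :=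
    { toFun := fun p => ⟨⟨p.1.2, hB _ _ p.2⟩, ⟨p.1.1, p.2⟩⟩
      invFun := fun q => ⟨(q.2.1, q.1.1), q.2.2⟩
      left_inv := fun p => rfl
      right_inv := fun q => rfl }
  have hm' : ∀ b : ↥B, Nat.card {a // P a b.1} = m := fun b =>
    (Nat.card_coe_set_eq {a | P a b.1}).trans (hm b.1 b.2)
  rw [Nat.card_congr e, Nat.card_sigma, Finset.sum_congr rfl (fun (b : ↥B) _ => hm' b), Finset.sum_const,
    smul_eq_mul, Finset.card_univ, ← Nat.card_eq_fintype_card, Nat.card_coe_set_eq]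

/-- Counting a relation by its first coordinate. -/
theorem pairs_const' {α β : Type*} [Finite α] [Finite β] (P : α → β → Prop) (A : Set α) {m : ℕ}
    (hA : ∀ a b, P a b → a ∈ A) (hm : ∀ a ∈ A, {b | P a b}.ncard = m) :
    Nat.card {p : α × β // P p.1 p.2} = A.ncard * m := by
  rw [← pairs_const (fun b a => P a b) A (fun b a h => hA a b h) hm]
  exact Nat.card_congr ((Equiv.prodComm α β).subtypeEquiv fun p => Iff.rfl)

variable {G : Type*} [Group G]

/-- The conjugates of `z` centralising `b`. -/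
def Zset (z b : G) : Set G := {u | IsConj z u ∧ Commute u b}

theorem ncard_conj_set (S : Set G) (c : G) : ((fun u => c * u * c⁻¹) '' S).ncard = S.ncard :=
  Set.ncard_image_of_injective _ fun _ _ e => mul_left_cancel (mul_right_cancel e)

theorem mem_zpowers_conj (c a g : G) :
    c * a * c⁻¹ ∈ Subgroup.zpowers (c * g * c⁻¹) ↔ a ∈ Subgroup.zpowers g := by
  simp only [Subgroup.mem_zpowers_iff]
  refine exists_congr fun i => ?_
  rw [conj_zpow]
  exact ⟨fun h => mul_left_cancel (mul_right_cancel h), fun h => by rw [h]⟩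

theorem commute_of_mem [Finite G] {u v z : G} (hu : u * u = 1) (hv : v * v = 1) (hz : orderOf z = 2)
    (hm : z ∈ Subgroup.zpowers (u * v)) : Commute u z ∧ Commute v z := by
  obtain ⟨hev, e⟩ := invol_unique_zpowers hz hm
  rw [e]
  refine ⟨(commute_pow_half hu (invert_mul hu hv) hev).symm, (commute_pow_half hv ?_ hev).symm⟩
  rw [mul_inv_rev, inv_eq_of_mul_eq_one_right hu, inv_eq_of_mul_eq_one_right hv,
    show v * (u * v) * v = v * u * (v * v) by group, hv, mul_one]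

theorem isConj_iff_conj {a : G} (c t : G) : IsConj a (c * t * c⁻¹) ↔ IsConj a t :=
  ⟨fun h => h.trans (isConj_iff.2 ⟨c, rfl⟩).symm, fun h => h.trans (isConj_iff.2 ⟨c, rfl⟩)⟩

theorem commute_conj_iff (c s t : G) : Commute (c * s * c⁻¹) (c * t * c⁻¹) ↔ Commute s t :=
  ⟨fun h => by simpa [mul_assoc] using h.map (MulAut.conj c⁻¹).toMonoidHom,
    fun h => by simpa using h.map (MulAut.conj c).toMonoidHom⟩

namespace Duo

variable [Finite G] {z : G} {Q : Subgroup G} {co : G → ℕ} {ac : G → ℕ → ℕ} {x n : G}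
  (d : Duo z Q co ac x n)
  {b : G} (hb : Form Q co ac n z b 16 32) (hb2 : b * b = 1) (hbQ : b ∉ Q)
include d

theorem mul_z_ztype {u : G} (hconj : IsConj z u) (huz : Commute u z) (hne : u ≠ z) :
    IsConj z (u * z) := by
  obtain ⟨hu2, hu1⟩ := sq_of_isConj d.fr.zsq d.fr.es.ne hconj
  have h2 : u * z * (u * z) = 1 := by
    rw [show u * z * (u * z) = u * (z * u) * z by group, huz.symm.eq, ← mul_assoc, hu2, one_mul, d.fr.es.sq]
  by_cases hQ : u ∈ Q
  · refine d.isConj_Q (mul_mem hQ d.fr.es.mem) (orderOf_two h2 fun e => hne ?_)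
    rw [eq_inv_of_mul_eq_one_left e, inv_eq_of_mul_eq_one_right d.fr.es.sq]
  · have hQ' : u * z ∉ Q := fun hm => hQ (by
      have := mul_mem hm d.fr.es.mem
      rwa [mul_assoc, d.fr.es.sq, mul_one] at this)
    refine (d.isConj_iff_tr (huz.mul_left (Commute.refl z)) h2 hQ').2 ?_
    refine (Tr.congr fun k hk => ?_).2 ((d.isConj_iff_tr huz hu2 hQ).1 hconj)
    rw [d.fr.ac_mul huz (Commute.refl z) hk, d.fr.ac_Q d.fr.es.mem hk]

/-- Two commuting conjugates of `z` have a conjugate of `z` as product. -/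
theorem mul_ztype {p q : G} (hp : IsConj z p) (hq : IsConj z q) (hpq : Commute p q) (hne : p ≠ q) :
    IsConj z (p * q) := by
  obtain ⟨g, rfl⟩ := isConj_iff.1 hp
  have hq' : q = g * (g⁻¹ * q * g) * g⁻¹ := by group
  generalize g⁻¹ * q * g = u at hq'
  subst hq'
  rw [show g * z * g⁻¹ * (g * u * g⁻¹) = g * (z * u) * g⁻¹ by group, isConj_iff_conj]
  have huz := ((commute_conj_iff g z u).1 hpq).symm
  rw [← huz.eq]
  exact d.mul_z_ztype ((isConj_iff_conj g u).1 hq) huz fun e => hne (by rw [e])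

theorem mul_wtype {p q : G} (hp : IsConj z p) (hpq : Commute p q) (hq1 : q ≠ 1) (hq : ¬ IsConj z q) :
    ¬ IsConj z (p * q) := fun h => hq (by
  have hp2 := (sq_of_isConj d.fr.zsq d.fr.es.ne hp).1
  have := d.mul_ztype hp h ((Commute.refl p).mul_right hpq) fun e => hq1 (left_eq_mul.1 e)
  rwa [← mul_assoc, hp2, one_mul] at this)

/-- An involution in the group of the product of two conjugates of `z` is a conjugate of `z`. -/
theorem invol_ztype {p u c : G} (hp : IsConj z p) (hu : IsConj z u) (hc : orderOf c = 2)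
    (hm : c ∈ Subgroup.zpowers (p * u)) : IsConj z c := by
  obtain ⟨hp2, -⟩ := sq_of_isConj d.fr.zsq d.fr.es.ne hp
  obtain ⟨hu2, -⟩ := sq_of_isConj d.fr.zsq d.fr.es.ne hu
  have hcp := (commute_of_mem hp2 hu2 hc hm).1
  obtain ⟨k, hk⟩ := Subgroup.mem_zpowers_iff.1 hm
  have hconj : IsConj z (p * c) := by
    rcases Int.even_or_odd k with ⟨j, hj⟩ | ⟨j, hj⟩
    · obtain ⟨e, -, he⟩ := (exists_conj_mem_iff hp2 hu2 (w := p * c)).2
        ⟨j, by rw [← hk, hj, two_mul]⟩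
      exact hp.trans (isConj_iff.2 ⟨e, he⟩)
    · obtain ⟨e, -, he⟩ := (exists_conj_mem_iff hu2 hp2 (w := p * c)).2 ⟨-j, by
        rw [← hk, hj, add_comm, zpow_add, zpow_one, ← mul_assoc, ← mul_assoc p p u, hp2, one_mul,
          mul_neg, zpow_neg, ← inv_zpow]
        congr 2
        rw [mul_inv_rev, inv_eq_of_mul_eq_one_right hu2, inv_eq_of_mul_eq_one_right hp2]⟩
      exact hu.trans (isConj_iff.2 ⟨e, he⟩)
  have := d.mul_ztype hp hconj ((Commute.refl p).mul_right hcp) fun e => invol_ne_one hc (left_eq_mul.1 e)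
  rwa [← mul_assoc, hp2, one_mul] at this

include hb in
theorem Wset_conj_b {v : G} (hv : v ∈ Wset z) : ∃ c, Commute c z ∧ c * v * c⁻¹ = b := by
  obtain ⟨hvz, hv2, hv1, hnot⟩ := id hv
  obtain ⟨c, hc, hcase⟩ := d.classify hvz hv2 (d.Wset_not_mem hv)
  rcases hcase with hB | hF
  · refine absurd ((isConj_iff_conj c v).1 (d.isConj_B hB ?_)) hnot
    rw [orderOf_conj_eq]
    exact orderOf_two hv2 hv1
  · obtain ⟨r, hr, hrb⟩ := d.form_unique hF hb
    exact ⟨r * c, (d.A_comm hr).2.mul_left hc, by rw [← hrb]; group⟩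

include hb in
theorem isConj_b {t : G} (ht : t * t = 1) (ht1 : t ≠ 1) (hnot : ¬ IsConj z t) : IsConj b t := by
  obtain ⟨g, hg⟩ := d.fr.exists_conj_commute (orderOf_two ht ht1)
  obtain ⟨c, -, hcb⟩ := d.Wset_conj_b hb (v := g * t * g⁻¹) ⟨hg, by
    calc g * t * g⁻¹ * (g * t * g⁻¹) = g * (t * t) * g⁻¹ := by group
      _ = 1 := by rw [ht]; group, fun e => ht1 (conj_eq_one_iff.1 e), fun e => hnot ((isConj_iff_conj g t).1 e)⟩
  exact ((isConj_iff_conj g t).1 (isConj_iff.2 ⟨c, hcb⟩).symm)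

include hb hb2 hbQ in
theorem b_type : b ≠ 1 ∧ ¬ IsConj z b ∧ Commute b z :=
  ⟨fun e => hbQ (e ▸ one_mem Q), d.not_isConj hb hb2 hbQ, (d.form_commute hb).1⟩

include hb hb2 hbQ in
theorem b_class {v : G} : IsConj b v ↔ v * v = 1 ∧ v ≠ 1 ∧ ¬ IsConj z v := by
  obtain ⟨hb1, hnot, -⟩ := d.b_type hb hb2 hbQ
  refine ⟨fun h => ?_, fun ⟨h1, h2, h3⟩ => d.isConj_b hb h1 h2 h3⟩
  obtain ⟨h1, h2⟩ := sq_of_isConj hb2 hb1 h
  exact ⟨h1, h2, fun e => hnot (e.trans h.symm)⟩

include hb hb2 hbQ in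
theorem Wset_eq : Wset z = {v | IsConj b v ∧ Commute v z} := by
  ext v
  simp only [Wset, Set.mem_ofPred_eq, d.b_class hb hb2 hbQ]
  tauto

include hb hb2 hbQ in
/-- The centraliser of `b` is transitive on `Zset z b`. -/
theorem Zset_trans {u : G} (hu : u ∈ Zset z b) : ∃ k, k * z * k⁻¹ = u ∧ k * b * k⁻¹ = b := by
  obtain ⟨g, rfl⟩ := isConj_iff.1 hu.1
  obtain ⟨hb1, hnot, -⟩ := d.b_type hb hb2 hbQ
  have hb' : b = g * (g⁻¹ * b * g) * g⁻¹ := by group
  have hv : g⁻¹ * b * g ∈ Wset z := by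
    refine ⟨((commute_conj_iff g z _).1 (hb' ▸ hu.2)).symm, ?_, fun e => hb1 ?_, fun e => hnot ?_⟩
    · calc g⁻¹ * b * g * (g⁻¹ * b * g) = g⁻¹ * (b * b) * g := by group
        _ = 1 := by rw [hb2]; group
    · rw [hb', e]; group
    · rw [hb']; exact (isConj_iff_conj g _).2 e
  obtain ⟨c, hc, hcb⟩ := d.Wset_conj_b hb hv
  refine ⟨g * c⁻¹, ?_, ?_⟩
  · calc g * c⁻¹ * z * (g * c⁻¹)⁻¹ = g * (c⁻¹ * z * c) * g⁻¹ := by group
      _ = g * z * g⁻¹ := by rw [mul_assoc c⁻¹, ← hc.eq, inv_mul_cancel_left]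
  · calc g * c⁻¹ * b * (g * c⁻¹)⁻¹ = g * c⁻¹ * (c * (g⁻¹ * b * g) * c⁻¹) * (g * c⁻¹)⁻¹ := by rw [hcb]
      _ = b := by group

omit d [Finite G] in
theorem Zset_stable {k u : G} (hk : k * b * k⁻¹ = b) : k * u * k⁻¹ ∈ Zset z b ↔ u ∈ Zset z b := by
  refine and_congr (isConj_iff_conj k u) ?_
  conv_lhs => rw [← hk]
  exact commute_conj_iff k u b

include hb hb2 hbQ in
/-- The pairs in `Zset z b` inside `C(z)` with `z` the involution of the product. -/
theorem inner_pairs :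
    Nat.card {p : G × G // p.1 ∈ Zset z b ∧ p.2 ∈ Zset z b ∧ z ∈ Subgroup.zpowers (p.1 * p.2)} = 122 := by
  classical
  obtain ⟨hb1, hnot, hbz⟩ := d.b_type hb hb2 hbQ
  have h16 : (16 : ℕ) ∈ v4 := by decide
  set D : Set G := {u | u ∈ Zset z b ∧ Commute u z ∧ u ≠ z} with hD
  have hpv : ∀ p ∈ (0, 0) :: pD, p.1 ∈ v4 ∧ p.2 ∈ v4 := by
    intro p hp
    rcases List.mem_cons.1 hp with rfl | hp
    · exact ⟨by decide, by decide⟩
    · exact ⟨(pD_spec p hp).1, (pD_spec p hp).2.1⟩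
  -- the parameters
  have hfwd : ∀ u ∈ D, ∃ p ∈ (0, 0) :: pD, Form Q co ac n z u p.1 p.2 := by
    rintro u ⟨⟨hconj, hub⟩, huz, hne⟩
    obtain ⟨hu2, hu1⟩ := sq_of_isConj d.fr.zsq d.fr.es.ne hconj
    by_cases hQ : u ∈ Q
    · have hX : u ∈ Xset z Q := ⟨hQ, hu2, hu1, hne⟩
      have hs := d.Xset_sing hX
      have hfix : eich 16 (co u) = co u := by
        rw [← (d.form_commute hb).2 _ (d.fr.co_lt u hQ), ← d.fr.conj b hbz u hQ,
          mul_inv_eq_iff_eq_mul.2 hub.symm.eq]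
      obtain ⟨g1, -, -⟩ := sing_fixed_b1 _ hs hfix
      have hF := d.form_Q hQ g1
      by_cases h0 : co u &&& 60 = 0
      · exact ⟨(0, 0), List.mem_cons_self, h0 ▸ hF⟩
      refine ⟨(0, co u &&& 60), List.mem_cons_of_mem _ ?_, hF⟩
      have e := d.form_com (p := (0, co u &&& 60)) (q := (16, 32)) (show (0 : ℕ) ∈ v4 by decide) h16 hF hb
      rw [show com u b = 1 from mul_inv_eq_one.2 (mul_inv_eq_iff_eq_mul.2 hub.eq)] at e
      obtain ⟨e1, e2⟩ := d.ee_one_iff.1 e.symm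
      refine pD_of_Q _ (mem_v4 (d.fr.co_lt u hQ)) h0 ?_ e2 e1
      rw [qn_mask (d.fr.co_lt u hQ) g1, (mem_sing.1 hs).2.2]
    · have hB : u ∈ Bset z Q := ⟨hconj, huz, hQ⟩
      obtain ⟨i, hi, j, hj, hij, hne', hbn, hl⟩ := d.Bset_line hB
      have perm : ∀ s ∈ sing, s ∈ [i, j, i ^^^ j] → ac b s ∈ [i, j, i ^^^ j] := fun s hs hm =>
        (hl _ (d.fr.sing_ac hbz hs)).1.1 (d.fr.cen_commute huz hbz hub.symm ((hl s hs).1.2 hm))
      have h1 := (hl 1 (by decide)).1.2
        (d.b_line hb hi hj hne' hbn (perm i hi (by simp)) (perm j hj (by simp)))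
      obtain ⟨p, hp, hF⟩ := (Set.ext_iff.1 d.Bset_one u).1 ⟨hB, h1⟩
      have e := d.form_com (p := p) (q := (16, 32)) (pB_spec p hp).1 h16 hF hb
      rw [show com u b = 1 from mul_inv_eq_one.2 (mul_inv_eq_iff_eq_mul.2 hub.eq)] at e
      obtain ⟨e1, e2⟩ := d.ee_one_iff.1 e.symm
      exact ⟨p, List.mem_cons_of_mem _ (pD_of_pB p hp e1 e2), hF⟩
  have hback : ∀ p ∈ pD, ∀ u, Form Q co ac n z u p.1 p.2 → u ∈ D := by
    intro p hp u hF
    obtain ⟨hpa, hpv', hp0, htype, e1, e2⟩ := pD_spec p hp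
    have hub : Commute u b := by
      have e := d.form_com (p := p) (q := (16, 32)) hpa h16 hF hb
      rw [e1, e2, d.ee_zero] at e
      exact mul_inv_eq_iff_eq_mul.1 (mul_inv_eq_one.1 e)
    rcases htype with hB | ⟨h1, h2⟩
    · obtain ⟨⟨hconj, huz, hQ⟩, -⟩ := (Set.ext_iff.1 d.Bset_one u).2 ⟨p, hB, hF⟩
      exact ⟨⟨hconj, hub⟩, huz, fun e => hQ (e ▸ d.fr.es.mem)⟩
    · have hsq := d.form_sq hpa hF
      rw [h1, (pD_zero _ hpv').1, h2, show qn 0 = false from rfl, Bool.xor_self, d.ee_zero] at hsq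
      have hQ : u ∈ Q := by
        obtain ⟨hz', hk⟩ := d.form_commute hF
        exact d.fr.faithful u hz' fun k hk' => by rw [hk k hk', h1, eich_zero hk']
      have hne0 : ∀ w : G, w ∈ Q → co w = 0 → u ≠ w := fun w hw hwc e => by
        subst e
        have hF' := d.form_Q hw (by rw [hwc]; rfl)
        rw [hwc] at hF'
        obtain ⟨-, e'⟩ := d.form_inj hpa (show (0 : ℕ) ∈ v4 by decide) hF hF'
        rcases hp0 with h | h
        · exact h h1
        · exact h (e'.trans rfl)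
      have hu1 := hne0 1 (one_mem Q) d.fr.co_one
      exact ⟨⟨d.isConj_Q hQ (orderOf_two hsq hu1), hub⟩, d.fr.es.comm u hQ,
        hne0 z d.fr.es.mem d.fr.co_z⟩
  have hDz : ∀ u ∈ D, u * z ∈ D := fun u ⟨⟨h1, h2⟩, h3, h4⟩ =>
    ⟨⟨d.mul_z_ztype h1 h3 h4, h2.mul_left hbz.symm⟩, h3.mul_left (Commute.refl z), fun e =>
      (sq_of_isConj d.fr.zsq d.fr.es.ne h1).2 (mul_eq_right.1 e)⟩
  have hrow : ∀ p ∈ (0, 0) :: pD, ∀ u ∈ D, Form Q co ac n z u p.1 p.2 →
      {w | w ∈ D ∧ z ∈ Subgroup.zpowers (u * w)}.ncard =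
        1 + 4 * (pD.filter fun q => !(gX p q) && gZ p q).length := by
    intro p hp u hu hF
    have hu2 := (sq_of_isConj d.fr.zsq d.fr.es.ne hu.1.1).1
    have e : {w | w ∈ D ∧ z ∈ Subgroup.zpowers (u * w)} =
        {u * z} ∪ fset Q co ac n z (pD.filter fun q => !(gX p q) && gZ p q) := by
      ext w
      constructor
      · rintro ⟨hw, hm⟩
        obtain ⟨q, hq, hFw⟩ := hfwd w hw
        rw [d.z_mem_forms (hpv p hp).1 (hpv q hq).1 hF hFw hu2
          (sq_of_isConj d.fr.zsq d.fr.es.ne hw.1.1).1] at hm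
        rcases hm with ⟨g1, g2⟩ | ⟨-, -, g⟩
        · refine Or.inr ⟨q, List.mem_filter.2 ⟨?_, by simp [g1, g2]⟩, hFw⟩
          rcases List.mem_cons.1 hq with rfl | hq
          · exfalso
            rcases List.mem_cons.1 hp with rfl | hp
            · exact absurd g2 (by decide)
            · rw [(gZ_point p hp).2.2.2] at g2
              cases g2
          · exact hq
        · exact Or.inl (by rw [Set.mem_singleton_iff, g, ← mul_assoc, hu2, one_mul])
      · rintro (rfl | ⟨q, hq, hFw⟩)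
        · refine ⟨hDz u hu, ?_⟩
          rw [← mul_assoc, hu2, one_mul]
          exact Subgroup.mem_zpowers z
        · obtain ⟨hq, hg⟩ := List.mem_filter.1 hq
          have hw := hback q hq w hFw
          refine ⟨hw, ?_⟩
          rw [d.z_mem_forms (hpv p hp).1 (pD_spec q hq).1 hF hFw hu2
            (sq_of_isConj d.fr.zsq d.fr.es.ne hw.1.1).1]
          refine Or.inl ?_
          simpa using hg
    have hdis : Disjoint ({u * z} : Set G) (fset Q co ac n z (pD.filter fun q => !(gX p q) && gZ p q)) := by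
      rw [Set.disjoint_singleton_left]
      rintro ⟨q, hq, hFw⟩
      obtain ⟨hq, hg⟩ := List.mem_filter.1 hq
      simp only [Bool.and_eq_true, Bool.not_eq_true'] at hg
      have e := d.form_com (hpv p hp).1 (pD_spec q hq).1 hF hFw
      rw [hg.1, hg.2, ← mul_sq_com hu2 (sq_of_isConj d.fr.zsq d.fr.es.ne (hDz u hu).1.1).1,
        ← mul_assoc u u z, hu2, one_mul, d.fr.es.sq] at e
      exact absurd (d.ee_one_iff.1 e.symm).2 (by decide)
    rw [e, Set.ncard_union_eq hdis, Set.ncard_singleton, d.ncard_fset _ (pD_nodup.filter _)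
      (fun q hq => ⟨(pD_spec q (List.mem_filter.1 hq).1).1, (pD_spec q (List.mem_filter.1 hq).1).2.1⟩)]
  set F := fset Q co ac n z pD with hFdef
  set R := fset Q co ac n z [(0, 0)] \ {1, z} with hRdef
  have hsub : ({1, z} : Set G) ⊆ fset Q co ac n z [(0, 0)] := by
    have key : ∀ w : G, w ∈ Q → co w = 0 → w ∈ fset Q co ac n z [(0, 0)] := fun w hw hwc => by
      have hF' := d.form_Q hw (by rw [hwc]; rfl)
      rw [hwc] at hF'
      exact ⟨(0, 0), List.mem_cons_self, hF'⟩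
    rintro w (rfl | rfl)
    · exact key _ (one_mem Q) d.fr.co_one
    · exact key _ d.fr.es.mem d.fr.co_z
  have hR : R.ncard = 2 := by
    rw [hRdef, Set.ncard_sdiff hsub, Set.ncard_pair d.fr.es.ne.symm,
      d.ncard_fset _ (List.nodup_singleton _) (fun p hp => by
        rw [List.mem_singleton] at hp
        subst hp
        exact ⟨by decide, by decide⟩)]
    rfl
  have hRD : R ⊆ D := by
    rintro w ⟨⟨p, hp, hF'⟩, hne⟩
    rw [List.mem_singleton] at hp
    subst hp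
    simp only [Set.mem_insert_iff, Set.mem_singleton_iff, not_or] at hne
    have hQ : w ∈ Q := by
      obtain ⟨hz', hk⟩ := d.form_commute hF'
      exact d.fr.faithful w hz' fun k hk' => by rw [hk k hk', eich_zero hk']
    have hsq := d.form_sq (show (0 : ℕ) ∈ v4 by decide) hF'
    rw [show bn 0 0 = false from rfl, show qn 0 = false from rfl, Bool.xor_self, d.ee_zero] at hsq
    obtain ⟨-, g1, g2⟩ := pD_zero 0 (by decide)
    have e := d.form_com (p := (0, 0)) (q := (16, 32)) (show (0 : ℕ) ∈ v4 by decide) h16 hF' hb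
    rw [g1, g2, d.ee_zero] at e
    exact ⟨⟨d.isConj_Q hQ (orderOf_two hsq hne.1), mul_inv_eq_iff_eq_mul.1 (mul_inv_eq_one.1 e)⟩,
      d.fr.es.comm w hQ, hne.2⟩
  have hsplit : ∀ u w, (u ∈ D ∧ w ∈ D ∧ z ∈ Subgroup.zpowers (u * w)) → u ∈ F ∨ u ∈ R := by
    rintro u w ⟨hu, -, -⟩
    obtain ⟨p, hp, hF'⟩ := hfwd u hu
    rcases List.mem_cons.1 hp with rfl | hp
    · refine Or.inr ⟨⟨(0, 0), List.mem_cons_self, hF'⟩, ?_⟩
      rintro (e | e)
      · exact (sq_of_isConj d.fr.zsq d.fr.es.ne hu.1.1).2 e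
      · exact hu.2.2 e
    · exact Or.inl ⟨p, hp, hF'⟩
  have hS : ∀ u w, (u ∈ Zset z b ∧ w ∈ Zset z b ∧ z ∈ Subgroup.zpowers (u * w)) ↔
      ((u ∈ F ∧ w ∈ D ∧ z ∈ Subgroup.zpowers (u * w)) ∨ (u ∈ R ∧ w ∈ D ∧ z ∈ Subgroup.zpowers (u * w))) := by
    intro u w
    constructor
    · rintro ⟨hu, hw, hm⟩
      obtain ⟨hu2, hu1⟩ := sq_of_isConj d.fr.zsq d.fr.es.ne hu.1
      obtain ⟨hw2, hw1⟩ := sq_of_isConj d.fr.zsq d.fr.es.ne hw.1
      obtain ⟨huz, hwz⟩ := commute_of_mem hu2 hw2 d.fr.ord hm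
      have key : ∀ {p q : G}, p * p = 1 → q * q = 1 → q ≠ 1 → Commute p q → z ∈ Subgroup.zpowers (p * q) →
          p ≠ z := fun {p q} hp hq hq1 hc hm e => by
        have h2 : p * q * (p * q) = 1 := by
          rw [show p * q * (p * q) = p * (q * p) * q by group, hc.symm.eq, ← mul_assoc, hp, one_mul, hq]
        rcases (z_mem_iff_sq d.fr.ord h2 (one_mul 1)).1 hm with ⟨h, -⟩ | ⟨-, h⟩
        · exact h rfl
        · exact hq1 (left_eq_mul.1 (e.trans h))
      have huD : u ∈ D := by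
        refine ⟨hu, huz, fun e => key hu2 hw2 hw1 ?_ hm e⟩
        rw [e]; exact hwz.symm
      have hwD : w ∈ D := by
        refine ⟨hw, hwz, fun e => key (p := w) (q := u) hw2 hu2 hu1 ?_ ?_ e⟩
        · rw [e]; exact huz.symm
        · have e' : Commute u w := by rw [e]; exact huz
          rw [← e'.eq]; exact hm
      exact (hsplit u w ⟨huD, hwD, hm⟩).imp (fun h => ⟨h, hwD, hm⟩) fun h => ⟨h, hwD, hm⟩
    · rintro (⟨hu, hw, hm⟩ | ⟨hu, hw, hm⟩)
      · obtain ⟨p, hp, hF'⟩ := hu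
        exact ⟨(hback p hp u hF').1, hw.1, hm⟩
      · exact ⟨(hRD hu).1, hw.1, hm⟩
  rw [Nat.card_congr (Equiv.subtypeEquivRight fun p : G × G => hS p.1 p.2)]
  refine (Nat.card_coe_set_eq ({p : G × G | p.1 ∈ F ∧ p.2 ∈ D ∧ z ∈ Subgroup.zpowers (p.1 * p.2)} ∪
      {p : G × G | p.1 ∈ R ∧ p.2 ∈ D ∧ z ∈ Subgroup.zpowers (p.1 * p.2)})).trans ?_
  rw [Set.ncard_union_eq (Set.disjoint_left.2 fun p h1 h2 => ?_)]
  · have c1 := pairs_const' (fun u w => u ∈ F ∧ w ∈ D ∧ z ∈ Subgroup.zpowers (u * w)) F (m := 5)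
      (fun u w h => h.1) (fun u hu => by
        obtain ⟨p, hp, hF'⟩ := id hu
        simp only [hu, true_and]
        rw [hrow p (List.mem_cons_of_mem _ hp) u (hback p hp u hF') hF', pD_row p hp])
    have c2 := pairs_const' (fun u w => u ∈ R ∧ w ∈ D ∧ z ∈ Subgroup.zpowers (u * w)) R (m := 1)
      (fun u w h => h.1) (fun u hu => by
        obtain ⟨⟨p, hp, hF'⟩, -⟩ := id hu
        rw [List.mem_singleton] at hp
        subst hp
        simp only [hu, true_and]
        rw [hrow (0, 0) List.mem_cons_self u (hRD hu) hF', pD_row_zero])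
    rw [hR] at c2
    rw [hFdef, d.ncard_fset _ pD_nodup (fun p hp => ⟨(pD_spec p hp).1, (pD_spec p hp).2.1⟩),
      pD_length] at c1
    exact (congrArg₂ (· + ·) ((Nat.card_coe_set_eq _).symm.trans c1)
      ((Nat.card_coe_set_eq _).symm.trans c2)).trans rfl
  · obtain ⟨⟨p, hp, hF'⟩, -⟩ := h1
    obtain ⟨⟨⟨q, hq, hFq⟩, -⟩, -⟩ := h2
    rw [List.mem_singleton] at hq
    subst hq
    obtain ⟨e1, e2⟩ := d.form_inj (pD_spec p hp).1 (show (0 : ℕ) ∈ v4 by decide) hF' hFq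
    rcases (pD_spec p hp).2.2.1 with h | h
    · exact h e1
    · exact h e2

include hb hb2 hbQ in
/-- The number of pairs of even order. -/
theorem even_ncard :
    {u ∈ Zset z b | Even (orderOf (z * u))}.ncard = 122 := by
  classical
  set E := {u ∈ Zset z b | Even (orderOf (z * u))} with hE
  set T : Set (G × G) := {p | p.1 ∈ Zset z b ∧ p.2 ∈ Zset z b ∧ Even (orderOf (p.1 * p.2))} with hT
  obtain ⟨-, -, hbz⟩ := d.b_type hb hb2 hbQ
  have hzZ : z ∈ Zset z b := ⟨IsConj.refl z, hbz.symm⟩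
  have h1 := pairs_const' (fun u w => u ∈ Zset z b ∧ w ∈ Zset z b ∧ Even (orderOf (u * w))) (Zset z b)
    (fun u w h => h.1) (m := E.ncard) (fun u hu => by
      obtain ⟨k, hk1, hk2⟩ := d.Zset_trans hb hb2 hbQ hu
      rw [← ncard_conj_set E k]
      congr 1
      ext w
      constructor
      · rintro ⟨-, hw, hev⟩
        refine ⟨k⁻¹ * w * k, ⟨(Zset_stable hk2).1 (by group; exact hw), ?_⟩, by group⟩
        rw [← orderOf_conj_eq k, show k * (z * (k⁻¹ * w * k)) * k⁻¹ = k * z * k⁻¹ * w by group, hk1]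
        exact hev
      · rintro ⟨v, ⟨hv, hev⟩, rfl⟩
        refine ⟨hu, (Zset_stable hk2).2 hv, ?_⟩
        rw [← hk1, show k * z * k⁻¹ * (k * v * k⁻¹) = k * (z * v) * k⁻¹ by group, orderOf_conj_eq]
        exact hev)
  have h2 := pairs_const' (fun (p : G × G) c => p ∈ T ∧ orderOf c = 2 ∧ c ∈ Subgroup.zpowers (p.1 * p.2))
    T (fun p c h => h.1) (m := 1) (fun p hp => by
      refine Set.ncard_eq_one.2 ⟨(p.1 * p.2) ^ (orderOf (p.1 * p.2) / 2), Set.ext fun c => ?_⟩
      simp only [hp, true_and, Set.mem_ofPred_eq, Set.mem_singleton_iff]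
      exact ⟨fun h => (invol_unique_zpowers h.1 h.2).2,
        fun e => e ▸ ⟨orderOf_pow_half hp.2.2, Subgroup.npow_mem_zpowers _ _⟩⟩)
  have h3 := pairs_const (fun (p : G × G) c => p ∈ T ∧ orderOf c = 2 ∧ c ∈ Subgroup.zpowers (p.1 * p.2))
    (Zset z b) (m := 122)
    (fun p c h => by
      obtain ⟨⟨hp1, hp2, -⟩, hc, hm⟩ := h
      refine ⟨d.invol_ztype hp1.1 hp2.1 hc hm, ?_⟩
      obtain ⟨i, rfl⟩ := Subgroup.mem_zpowers_iff.1 hm
      exact (hp1.2.mul_left hp2.2).zpow_left i)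
    (fun c hc => by
      obtain ⟨k, hk1, hk2⟩ := d.Zset_trans hb hb2 hbQ hc
      rw [← d.inner_pairs hb hb2 hbQ, ← Nat.card_coe_set_eq]
      refine (Nat.card_congr (Equiv.subtypeEquiv
        ((MulAut.conj k).toEquiv.prodCongr (MulAut.conj k).toEquiv) fun p => ?_)).symm
      obtain ⟨p, q⟩ := p
      show _ ↔ ((k * p * k⁻¹, k * q * k⁻¹) ∈ T ∧ orderOf c = 2 ∧
        c ∈ Subgroup.zpowers (k * p * k⁻¹ * (k * q * k⁻¹)))
      have hm : c ∈ Subgroup.zpowers (k * p * k⁻¹ * (k * q * k⁻¹)) ↔ z ∈ Subgroup.zpowers (p * q) := by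
        rw [show k * p * k⁻¹ * (k * q * k⁻¹) = k * (p * q) * k⁻¹ by group, ← hk1, mem_zpowers_conj]
      have hco : orderOf c = 2 := by rw [← hk1, orderOf_conj_eq]; exact d.fr.ord
      simp only [hT, Set.mem_ofPred_eq, Zset_stable hk2, hm, hco, true_and]
      constructor
      · rintro ⟨a, b', c'⟩
        refine ⟨⟨a, b', ?_⟩, c'⟩
        rw [show k * p * k⁻¹ * (k * q * k⁻¹) = k * (p * q) * k⁻¹ by group, orderOf_conj_eq]
        exact (invol_unique_zpowers d.fr.ord c').1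
      · rintro ⟨⟨a, b', -⟩, c'⟩
        exact ⟨a, b', c'⟩)
  have h4 : Nat.card {p : G × G // p.1 ∈ Zset z b ∧ p.2 ∈ Zset z b ∧ Even (orderOf (p.1 * p.2))} =
      T.ncard := Nat.card_coe_set_eq T
  rw [h4] at h1
  rw [h3, mul_one, h1] at h2
  have hpos : 0 < (Zset z b).ncard := (Set.ncard_pos (Set.toFinite _)).2 ⟨z, hzZ⟩
  exact (Nat.eq_of_mul_eq_mul_left hpos h2.symm)

include hb hb2 hbQ in
/-- The involutions conjugate to `b` with `b` the involution of their product with `z`. -/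
theorem far_ncard :
    {q | IsConj b q ∧ b ∈ Subgroup.zpowers (z * q)}.ncard + 122 = (Zset z b).ncard := by
  classical
  obtain ⟨hb1, hnot, hbz⟩ := d.b_type hb hb2 hbQ
  have hbo := orderOf_two hb2 hb1
  have e : {q | IsConj b q ∧ b ∈ Subgroup.zpowers (z * q)} =
      (fun u => b * u) '' {u ∈ Zset z b | Odd (orderOf (z * u))} := by
    ext q
    constructor
    · rintro ⟨hq, hm⟩
      obtain ⟨hq2, hq1⟩ := sq_of_isConj hb2 hb1 hq
      obtain ⟨-, hqb⟩ := commute_of_mem d.fr.zsq hq2 hbo hm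
      set g := z * q with hg
      have hgg : g * g = z * (q * z * q) := by rw [hg]; group
      have hz' : IsConj z (q * z * q) := isConj_iff.2 ⟨q, by rw [inv_eq_of_mul_eq_one_right hq2]⟩
      have hno : b ∉ Subgroup.zpowers (g * g) := fun h =>
        hnot (d.invol_ztype (IsConj.refl z) hz' hbo (hgg ▸ h))
      obtain ⟨k, hk⟩ := Subgroup.mem_zpowers_iff.1 hm
      obtain ⟨j, rfl⟩ : Odd k := by
        rcases Int.even_or_odd k with ⟨j, rfl⟩ | h
        · refine absurd (Subgroup.mem_zpowers_iff.2 ⟨j, ?_⟩) hno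
          rw [← hk, ← two_mul, zpow_mul, zpow_two]
        · exact h
      have hu : b * q = z * g ^ (2 * (j + 1)) := by
        have hq' : q = z * g := by rw [hg, ← mul_assoc, d.fr.es.sq, one_mul]
        conv_lhs => rw [← hqb.symm.eq.symm, hq', mul_assoc z, ← hk, ← zpow_one_add]
        congr 2
        ring
      refine ⟨b * q, ⟨⟨?_, ?_⟩, ?_⟩, by show b * (b * q) = q; rw [← mul_assoc, hb2, one_mul]⟩
      · obtain ⟨e, -, he⟩ := (exists_conj_mem_iff d.fr.es.sq hq2 (w := b * q)).2 ⟨j + 1, hu⟩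
        exact isConj_iff.2 ⟨e, he⟩
      · exact (Commute.refl b).mul_left hqb
      · rw [hu, ← mul_assoc, d.fr.es.sq, one_mul]
        refine Nat.not_even_iff_odd.1 fun hev => hno ?_
        have h2 := orderOf_pow_half hev
        have hmem : (g ^ (2 * (j + 1))) ^ (orderOf (g ^ (2 * (j + 1))) / 2) ∈ Subgroup.zpowers (g * g) := by
          refine pow_mem (Subgroup.mem_zpowers_iff.2 ⟨j + 1, ?_⟩) _
          rw [zpow_mul, zpow_two]
        have hg2 : Subgroup.zpowers (g * g) ≤ Subgroup.zpowers g :=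
          Subgroup.zpowers_le.2 (mul_mem (Subgroup.mem_zpowers g) (Subgroup.mem_zpowers g))
        rw [(invol_unique_zpowers hbo hm).2, ← (invol_unique_zpowers h2 (hg2 hmem)).2]
        exact hmem
    · rintro ⟨u, ⟨⟨hconj, hub⟩, hodd⟩, rfl⟩
      obtain ⟨hu2, hu1⟩ := sq_of_isConj d.fr.zsq d.fr.es.ne hconj
      have hbu : b * u = u * b := hub.symm.eq
      refine ⟨d.isConj_b hb ?_ ?_ ?_, ?_⟩
      · show b * u * (b * u) = 1
        rw [show b * u * (b * u) = b * (u * b) * u by group, ← hbu, ← mul_assoc, hb2, one_mul, hu2]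
      · intro e
        refine hnot (?_ : IsConj z b)
        rw [eq_inv_of_mul_eq_one_left e, inv_eq_of_mul_eq_one_right hu2]
        exact hconj
      · show ¬ IsConj z (b * u)
        rw [hbu]
        exact d.mul_wtype hconj hub hb1 hnot
      · show b ∈ Subgroup.zpowers (z * (b * u))
        have hc : Commute b (z * u) := hbz.mul_right hub.symm
        rw [← mul_assoc, ← hbz.eq, mul_assoc]
        refine Subgroup.mem_zpowers_iff.2 ⟨(orderOf (z * u) : ℤ), ?_⟩
        rw [zpow_natCast, hc.mul_pow, pow_orderOf_eq_one, mul_one]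
        obtain ⟨i, hi⟩ := hodd
        rw [hi, pow_succ, pow_mul, pow_two, hb2, one_pow, one_mul]
  rw [e, Set.ncard_image_of_injective _ (mul_right_injective b), ← d.even_ncard hb hb2 hbQ,
    ← Set.ncard_union_eq (Set.disjoint_left.2 fun u h1 h2 => Nat.not_even_iff_odd.2 h1.2 h2.2)]
  congr 1
  ext u
  simp only [Set.mem_union, Set.mem_ofPred_eq, ← and_or_left]
  exact ⟨fun h => h.1, fun h => ⟨h, (Nat.even_or_odd _).symm⟩⟩

end Duo

end Cfsg.Agent.Lib.SuzType52
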