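import Cfsg.Agent.Lib.SuzTypeCount11.Space

/-!
# Suzuki type: the products of a lift and an element of `Q ∩ C(x)`, their commutators and their number

Owner: helper11.
-/

set_option autoImplicit false

namespace Cfsg.Agent.Lib.SuzType52

variable {G : Type*} [Group G]

namespace Duo

variable {z : G} {Q : Subgroup G} {co : G → ℕ} {ac : G → ℕ → ℕ} {x n : G}
  (d : Duo z Q co ac x n)
include d

theorem one_inB : InB Q n z 1 := by
  simpa [ee, pw] using d.ee_inB false false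

theorem act_one : Act ac 1 0 := fun k hk => by
  rw [d.fr.ac_Q (one_mem Q) hk, eich_zero hk]

theorem form_Q {q : G} (hq : q ∈ Q) (hb : b1 (co q) = false) :
    Form Q co ac n z q 0 (co q &&& 60) :=
  ⟨1, q, d.one_inB, d.act_one, ⟨hq, hb⟩, rfl, (one_mul q).symm⟩

theorem form_of_inB {u : G} {a : ℕ} (hu : InB Q n z u) (h : Act ac u a) : Form Q co ac n z u a 0 :=
  ⟨u, 1, hu, h, ⟨one_mem Q, by rw [d.fr.co_one]; decide⟩, by rw [d.fr.co_one]; rfl, (mul_one u).symm⟩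

theorem form_exists {a v : ℕ} (ha : a ∈ v4) (hv : v ∈ v4) : ∃ t, Form Q co ac n z t a v := by
  obtain ⟨u, hu, hua⟩ := d.lift a ha
  obtain ⟨hl, hm, hb⟩ := lt_of_mem_v4 v hv
  obtain ⟨r, hr, hrc⟩ := d.fr.co_surj v hl
  exact ⟨u * r, u, r, hu, hua, ⟨hr, by rw [hrc]; exact hb⟩, by rw [hrc]; exact hm, rfl⟩

theorem form_v4 {t : G} {a v : ℕ} (h : Form Q co ac n z t a v) : v ∈ v4 := by
  obtain ⟨u, r, -, -, hr, hrv, -⟩ := h
  exact hrv ▸ mem_v4 (d.fr.co_lt r hr.1)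

theorem ee_comm_Q (i j : Bool) {g : G} (hg : InA Q co g) : Commute g (ee z x i j) :=
  d.ee_comm (d.A_comm hg).1 (d.A_comm hg).2 i j

theorem form_mul_ee {t : G} {a v : ℕ} (h : Form Q co ac n z t a v) (i j : Bool) :
    Form Q co ac n z (t * ee z x i j) a v := by
  obtain ⟨u, r, hu, hua, hr, hrv, rfl⟩ := h
  have he : InA Q co (ee z x i j) := ⟨d.ee_mem i j, by rw [d.co_ee]; cases i <;> decide⟩
  refine ⟨u, r * ee z x i j, hu, hua, d.A_mul hr he, ?_, mul_assoc _ _ _⟩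
  rw [d.fr.co_mul r hr.1 _ he.1, xor_mask, hrv, d.co_ee]
  cases i <;> exact Nat.xor_zero v

/-- Two products with the same lift parameter differ by an element of `Q ∩ C(x)` acting trivially. -/
theorem form_diff {t t' : G} {a v v' : ℕ} (ha : a ∈ v4) (h : Form Q co ac n z t a v)
    (h' : Form Q co ac n z t' a v') :
    ∃ r, InA Q co r ∧ co r &&& 60 = v ^^^ v' ∧ t' = t * r := by
  obtain ⟨u, r, hu, hua, hr, hrv, rfl⟩ := h
  obtain ⟨u', r', hu', hua', hr', hrv', rfl⟩ := h'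
  obtain ⟨i, j, rfl⟩ := d.act_eq ha hu hu' hua hua'
  have he : InA Q co (ee z x i j) := ⟨d.ee_mem i j, by rw [d.co_ee]; cases i <;> decide⟩
  have hi : InA Q co r⁻¹ := ⟨inv_mem hr.1, by rw [d.fr.co_inv hr.1]; exact hr.2⟩
  refine ⟨r⁻¹ * ee z x i j * r', d.A_mul (d.A_mul hi he) hr', ?_, by group⟩
  rw [d.fr.co_mul _ (mul_mem hi.1 he.1) _ hr'.1, d.fr.co_mul _ hi.1 _ he.1, d.fr.co_inv hr.1, xor_mask,
    xor_mask, hrv, hrv', d.co_ee]
  cases i <;> exact congrArg (· ^^^ v') (Nat.xor_zero v)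

theorem form_eq {t t' : G} {a v : ℕ} (ha : a ∈ v4) (h : Form Q co ac n z t a v)
    (h' : Form Q co ac n z t' a v) : ∃ i j, t' = t * ee z x i j := by
  obtain ⟨r, hr, hrv, rfl⟩ := d.form_diff ha h h'
  rw [Nat.xor_self] at hrv
  obtain ⟨i, j, e⟩ := d.exists_ee hr.1 (by
    rcases mask_cases (d.fr.co_lt r hr.1) hr.2 with e | e <;> rw [hrv] at e
    · exact Or.inl e
    · exact Or.inr e)
  exact ⟨i, j, by rw [e]⟩

theorem form_inj {t : G} {a a' v v' : ℕ} (ha : a ∈ v4) (ha' : a' ∈ v4)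
    (h : Form Q co ac n z t a v) (h' : Form Q co ac n z t a' v') : a = a' ∧ v = v' := by
  have haa : a = a' := eich_inj ha ha' fun k hk => by
    rw [← (d.form_commute h).2 k hk, (d.form_commute h').2 k hk]
  subst haa
  obtain ⟨r, hr, hrv, e⟩ := d.form_diff ha h h'
  rw [left_eq_mul] at e
  rw [e, d.fr.co_one] at hrv
  exact ⟨rfl, Nat.eq_of_xor_eq_zero hrv.symm⟩

/-- The commutator of two products. -/
theorem form_com {t t' : G} {p q : ℕ × ℕ} (hp : p.1 ∈ v4) (hq : q.1 ∈ v4)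
    (h : Form Q co ac n z t p.1 p.2) (h' : Form Q co ac n z t' q.1 q.2) :
    com t t' = ee z x (gX p q) (gZ p q) := by
  obtain ⟨u, r, hu, hua, hr, hrv, rfl⟩ := h
  obtain ⟨u', r', hu', hua', hr', hrv', rfl⟩ := h'
  have c1 : com u u' = ee z x (bn p.1 q.1) false := by
    rw [d.com_BB hp hq hu hu' hua hua']
    exact (mul_one _).symm
  have c2 : com r u' = ee z x (bn q.1 p.2) (bn q.1 p.2) := by
    rw [d.com_act _ hq u' r hu' hua' hr, ← bn_mask hq (d.fr.co_lt r hr.1) hr.2, hrv]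
  have c3 : com u r' = ee z x (bn p.1 q.2) (bn p.1 q.2) := by
    rw [← com_inv, d.com_act _ hp u r' hu hua hr', ← bn_mask hp (d.fr.co_lt r' hr'.1) hr'.2, hrv',
      inv_eq_of_mul_eq_one_right (d.ee_sq _ _)]
  have c4 : com r r' = ee z x false (bn p.2 q.2) := by
    have e1 : com r r' = r' * pw z (bn (co r) (co r')) * r'⁻¹ := by
      rw [show com r r' = r * r' * r⁻¹ * r'⁻¹ from rfl, d.fr.comm_Q hr.1 hr'.1]
    rw [e1, ← bn_mask2 (d.fr.co_lt r hr.1) (d.fr.co_lt r' hr'.1) hr.2 hr'.2, hrv, hrv',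
      show pw z (bn p.2 q.2) = ee z x false (bn p.2 q.2) from (one_mul _).symm,
      d.central_conj (d.A_comm hr').1 (d.A_comm hr').2]
  rw [com_mul_left, com_mul_right, com_mul_right, c1, c2, c3, c4,
    d.central_conj (d.B_comm hu').1 (d.B_comm hu').2, d.central_conj (d.B_comm hu').1 (d.B_comm hu').2,
    d.ee_mul, d.ee_mul, d.central_conj (d.B_comm hu).1 (d.B_comm hu).2, d.ee_mul]
  simp only [gX, gZ]
  cases bn p.1 q.1 <;> cases bn p.1 q.2 <;> cases bn q.1 p.2 <;> cases bn p.2 q.2 <;> rfl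

end Duo

/-- The products with parameters in a list. -/
def fset (Q : Subgroup G) (co : G → ℕ) (ac : G → ℕ → ℕ) (n z : G) (L : List (ℕ × ℕ)) : Set G :=
  {t | ∃ p ∈ L, Form Q co ac n z t p.1 p.2}

namespace Duo

variable {z : G} {Q : Subgroup G} {co : G → ℕ} {ac : G → ℕ → ℕ} {x n : G}
  (d : Duo z Q co ac x n)
include d

theorem ncard_fset (L : List (ℕ × ℕ)) (hn : L.Nodup) (hv : ∀ p ∈ L, p.1 ∈ v4 ∧ p.2 ∈ v4) :
    (fset Q co ac n z L).ncard = 4 * L.length := by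
  classical
  choose! f hf using fun (p : ℕ × ℕ) (hp : p ∈ L) => d.form_exists (hv p hp).1 (hv p hp).2
  have himg : fset Q co ac n z L =
      (fun w : (ℕ × ℕ) × (Bool × Bool) => f w.1 * ee z x w.2.1 w.2.2) ''
        ((L.toFinset : Set (ℕ × ℕ)) ×ˢ (Set.univ : Set (Bool × Bool))) := by
    ext t
    simp only [fset, Set.mem_ofPred_eq, Set.mem_image, Set.mem_prod, Finset.mem_coe, List.mem_toFinset,
      Set.mem_univ, and_true]
    constructor
    · rintro ⟨p, hp, ht⟩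
      obtain ⟨i, j, e⟩ := d.form_eq (hv p hp).1 (hf p hp) ht
      exact ⟨(p, i, j), hp, e.symm⟩
    · rintro ⟨w, hw, rfl⟩
      exact ⟨w.1, hw, d.form_mul_ee (hf w.1 hw) _ _⟩
  rw [himg, Set.InjOn.ncard_image, Set.ncard_prod, Set.ncard_coe_finset, Set.ncard_univ,
    List.toFinset_card_of_nodup hn, Nat.card_prod, Nat.card_eq_fintype_card, Fintype.card_bool,
    mul_comm]
  rintro ⟨p, i, j⟩ ⟨hp, -⟩ ⟨q, i', j'⟩ ⟨hq, -⟩ e
  simp only [Finset.mem_coe, List.mem_toFinset] at hp hq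
  dsimp only at e
  have h1 := d.form_mul_ee (hf p hp) i j
  have h2 := d.form_mul_ee (hf q hq) i' j'
  rw [e] at h1
  obtain ⟨e1, e2⟩ := d.form_inj (hv p hp).1 (hv q hq).1 h1 h2
  obtain rfl : p = q := Prod.ext e1 e2
  obtain ⟨rfl, rfl⟩ := d.ee_inj (mul_left_cancel e)
  rfl

end Duo

end Cfsg.Agent.Lib.SuzType52
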