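import Cfsg.Agent.Lib.SuzTypeCount11.Far
import Cfsg.Agent.Lib.Involutions.Thompson

/-!
# Suzuki type: the Thompson count and the number of lines of the first type modulo five

Owner: helper11.
-/

set_option autoImplicit false

namespace Cfsg.Agent.Lib.SuzType52

open Cfsg.Agent.Lib.Involutions.Basic Cfsg.Agent.Lib.Involutions.Thompson

theorem five_key : ∀ a b c : ZMod 5, a ≠ 0 → b ≠ 0 → 4 * a * 1 = 3 * b * c →
    4 * a * (3 * b) = 1 * (4 * a) + c * 3 * (3 * b) → b = 3 := by decide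

theorem five_three : (3 : ZMod 5) ≠ 0 := by decide

theorem mod_five_count {Zc W X N n m : ℕ} (h1 : Zc * 6480 = W * X) (h2 : N + 122 = X)
    (h3 : Zc * W = 1529280 * Zc + X * N * W) (hn : ¬ 5 ∣ n) (hm : ¬ 5 ∣ m)
    (hz : Zc % 25 = 20 * n % 25) (hw : W % 25 = 15 * m % 25) : m % 5 = 3 := by
  obtain ⟨α, rfl⟩ : 5 ∣ Zc := by omega
  obtain ⟨β, rfl⟩ : 5 ∣ W := by omega
  have hprime : Fact (Nat.Prime 5) := ⟨by norm_num⟩
  have hn0 : (n : ZMod 5) ≠ 0 := fun e => hn ((ZMod.natCast_eq_zero_iff n 5).1 e)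
  have hm0 : (m : ZMod 5) ≠ 0 := fun e => hm ((ZMod.natCast_eq_zero_iff m 5).1 e)
  have ha : (α : ZMod 5) = 4 * n := by
    have : α % 5 = 4 * n % 5 := by omega
    simpa using (ZMod.natCast_eq_natCast_iff' α (4 * n) 5).2 this
  have hb : (β : ZMod 5) = 3 * m := by
    have : β % 5 = 3 * m % 5 := by omega
    simpa using (ZMod.natCast_eq_natCast_iff' β (3 * m) 5).2 this
  have h1' : α * 6480 = β * X := by
    refine Nat.eq_of_mul_eq_mul_left (show 0 < 5 by norm_num) ?_
    calc 5 * (α * 6480) = 5 * α * 6480 := by ring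
      _ = 5 * β * X := h1
      _ = 5 * (β * X) := by ring
  have hX : (X : ZMod 5) = 0 := by
    have e := congrArg (fun k : ℕ => (k : ZMod 5)) h1'
    simp only [Nat.cast_mul, ha, hb, show ((6480 : ℕ) : ZMod 5) = 0 from rfl, mul_zero] at e
    rcases mul_eq_zero.1 e.symm with h | h
    · rcases mul_eq_zero.1 h with h | h
      · exact absurd h five_three
      · exact absurd h hm0
    · exact h
  obtain ⟨h, rfl⟩ : 5 ∣ X := (ZMod.natCast_eq_zero_iff X 5).1 hX
  have e1 : α * 1296 = β * h := by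
    refine Nat.eq_of_mul_eq_mul_left (show 0 < 5 by norm_num) ?_
    calc 5 * (α * 1296) = α * 6480 := by ring
      _ = β * (5 * h) := h1'
      _ = 5 * (β * h) := by ring
  have e3 : α * β = 305856 * α + h * N * β := by
    refine Nat.eq_of_mul_eq_mul_left (show 0 < 25 by norm_num) ?_
    calc 25 * (α * β) = 5 * α * (5 * β) := by ring
      _ = 1529280 * (5 * α) + 5 * h * N * (5 * β) := h3
      _ = 25 * (305856 * α + h * N * β) := by ring
  have hN : (N : ZMod 5) = 3 := by
    have : N % 5 = 3 % 5 := by omega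
    simpa using (ZMod.natCast_eq_natCast_iff' N 3 5).2 this
  have z1 := congrArg (fun k : ℕ => (k : ZMod 5)) e1
  have z3 := congrArg (fun k : ℕ => (k : ZMod 5)) e3
  simp only [Nat.cast_mul, Nat.cast_add, ha, hb, hN, show ((1296 : ℕ) : ZMod 5) = 1 from rfl,
    show ((305856 : ℕ) : ZMod 5) = 1 from rfl] at z1 z3
  have := five_key _ _ _ hn0 hm0 z1 z3
  have h' : m % 5 = 3 % 5 := (ZMod.natCast_eq_natCast_iff' m 3 5).1 (by simpa using this)
  simpa using h'

variable {G : Type*} [Group G] [Finite G] {z : G} {Q : Subgroup G} {co : G → ℕ} {ac : G → ℕ → ℕ}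
  {x n : G}

namespace Duo

variable (d : Duo z Q co ac x n) {b : G} (hb : Form Q co ac n z b 16 32) (hb2 : b * b = 1) (hbQ : b ∉ Q)
include d hb hb2 hbQ

/-- Commuting pairs of the two classes. -/
theorem class_incidence :
    Nat.card {u : G // IsConj z u} * 6480 = Nat.card {v : G // IsConj b v} * (Zset z b).ncard := by
  have e1 := pairs_const' (fun u v => IsConj z u ∧ IsConj b v ∧ Commute v u) {u | IsConj z u}
    (fun u v h => h.1) (m := 6480) (fun u hu => by
      obtain ⟨g, rfl⟩ := isConj_iff.1 (show IsConj z u from hu)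
      rw [← d.Wset_ncard, d.Wset_eq hb hb2 hbQ, ← ncard_conj_set {v | IsConj b v ∧ Commute v z} g]
      congr 1
      ext v
      constructor
      · rintro ⟨-, h1, h2⟩
        refine ⟨g⁻¹ * v * g, ⟨?_, ?_⟩, by group⟩
        · exact (isConj_iff_conj g _).1 (by group; exact h1)
        · exact (commute_conj_iff g _ _).1 (by group; group at h2; exact h2)
      · rintro ⟨w, ⟨h1, h2⟩, rfl⟩
        exact ⟨hu, (isConj_iff_conj g w).2 h1, (commute_conj_iff g w z).2 h2⟩)
  have e2 := pairs_const (fun u v => IsConj z u ∧ IsConj b v ∧ Commute v u) {v | IsConj b v}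
    (fun u v h => h.2.1) (m := (Zset z b).ncard) (fun v hv => by
      obtain ⟨g, rfl⟩ := isConj_iff.1 (show IsConj b v from hv)
      rw [← ncard_conj_set (Zset z b) g]
      congr 1
      ext u
      constructor
      · rintro ⟨h1, -, h2⟩
        refine ⟨g⁻¹ * u * g, ⟨?_, ?_⟩, by group⟩
        · exact (isConj_iff_conj g _).1 (by group; exact h1)
        · exact ((commute_conj_iff g b _).1 (by group; group at h2; exact h2)).symm
      · rintro ⟨w, ⟨h1, h2⟩, rfl⟩
        exact ⟨(isConj_iff_conj g w).2 h1, hv, ((commute_conj_iff g w b).2 h2).symm⟩)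
  rw [e1] at e2
  rw [← Nat.card_coe_set_eq, ← Nat.card_coe_set_eq {v | IsConj b v}] at e2
  exact e2

/-- The pairs with `z` the involution of the product. -/
theorem near_pairs :
    Nat.card {p : G × G // IsConj z p.1 ∧ IsConj b p.2 ∧ z ∈ Subgroup.zpowers (p.1 * p.2)} = 1529280 := by
  obtain ⟨hb1, hnot, -⟩ := d.b_type hb hb2 hbQ
  rw [pairs_const (fun u v => IsConj z u ∧ IsConj b v ∧ z ∈ Subgroup.zpowers (u * v)) (Wset z) (m := 236),
    d.Wset_ncard]
  · rintro u v ⟨hu, hv, hm⟩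
    obtain ⟨hv2, hv1⟩ := sq_of_isConj hb2 hb1 hv
    rw [d.Wset_eq hb hb2 hbQ]
    exact ⟨hv, (commute_of_mem (sq_of_isConj d.fr.zsq d.fr.es.ne hu).1 hv2 d.fr.ord hm).2⟩
  · intro v hv
    obtain ⟨c, hc, hcb⟩ := d.Wset_conj_b hb hv
    have hzc : c * z * c⁻¹ = z := mul_inv_eq_iff_eq_mul.2 hc.eq
    have hvb : IsConj b v := by
      rw [d.Wset_eq hb hb2 hbQ] at hv
      exact hv.1
    rw [← d.near_ncard hb hb2 hbQ, ← ncard_conj_set {u | IsConj z u ∧ IsConj b v ∧ z ∈ Subgroup.zpowers (u * v)} c]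
    congr 1
    ext u
    constructor
    · rintro ⟨w, ⟨h1, -, h3⟩, rfl⟩
      refine ⟨(isConj_iff_conj c w).2 h1, ?_, ?_⟩
      · obtain ⟨hv2, -⟩ := sq_of_isConj hb2 hb1 hvb
        have := (commute_of_mem (sq_of_isConj d.fr.zsq d.fr.es.ne h1).1 hv2 d.fr.ord h3).1
        have := (commute_conj_iff c w z).2 this
        rwa [hzc] at this
      · rw [← hcb, show c * w * c⁻¹ * (c * v * c⁻¹) = c * (w * v) * c⁻¹ by group]
        have := (mem_zpowers_conj c z _).2 h3
        rwa [hzc] at this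
    · rintro ⟨h1, -, h3⟩
      refine ⟨c⁻¹ * u * c, ⟨(isConj_iff_conj c _).1 (by group; exact h1), hvb, ?_⟩, by group⟩
      rw [← mem_zpowers_conj c, hzc, show c * (c⁻¹ * u * c * v) * c⁻¹ = u * (c * v * c⁻¹) by group, hcb]
      exact h3

/-- The pairs with `b` the involution of the product. -/
theorem far_pairs :
    ∃ N, N + 122 = (Zset z b).ncard ∧
      Nat.card {p : G × G // IsConj z p.1 ∧ IsConj b p.2 ∧ b ∈ Subgroup.zpowers (p.1 * p.2)} =
        (Zset z b).ncard * N := by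
  obtain ⟨hb1, hnot, -⟩ := d.b_type hb hb2 hbQ
  refine ⟨_, d.far_ncard hb hb2 hbQ, ?_⟩
  refine pairs_const' (fun u v => IsConj z u ∧ IsConj b v ∧ b ∈ Subgroup.zpowers (u * v)) (Zset z b)
    (fun u v h => ⟨h.1, ?_⟩) (fun u hu => ?_)
  · exact (commute_of_mem (sq_of_isConj d.fr.zsq d.fr.es.ne h.1).1 (sq_of_isConj hb2 hb1 h.2.1).1
      (orderOf_two hb2 hb1) h.2.2).1
  · obtain ⟨k, hk1, hk2⟩ := d.Zset_trans hb hb2 hbQ hu
    rw [← ncard_conj_set {q | IsConj b q ∧ b ∈ Subgroup.zpowers (z * q)} k]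
    congr 1
    ext v
    constructor
    · rintro ⟨-, h2, h3⟩
      refine ⟨k⁻¹ * v * k, ⟨(isConj_iff_conj k _).1 (by group; exact h2), ?_⟩, by group⟩
      rw [← mem_zpowers_conj k, hk2, show k * (z * (k⁻¹ * v * k)) * k⁻¹ = k * z * k⁻¹ * v by group, hk1]
      exact h3
    · rintro ⟨w, ⟨h2, h3⟩, rfl⟩
      refine ⟨hu.1, (isConj_iff_conj k w).2 h2, ?_⟩
      rw [← hk1, show k * z * k⁻¹ * (k * w * k⁻¹) = k * (z * w) * k⁻¹ by group]
      have := (mem_zpowers_conj k b _).2 h3
      rwa [hk2] at this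

/-- The Thompson formula for the two classes: `X` conjugates of `z` centralise `b`. -/
theorem thompson_data : ∃ X N, X = (Zset z b).ncard ∧ N + 122 = X ∧
    Nat.card {u : G // IsConj z u} * 6480 = Nat.card {v : G // IsConj b v} * X ∧
    Nat.card {u : G // IsConj z u} * Nat.card {v : G // IsConj b v} =
      1529280 * Nat.card {u : G // IsConj z u} + X * N * Nat.card {v : G // IsConj b v} ∧
    Nat.card G = Nat.card (Subgroup.centralizer ({b} : Set G)) * 1529280 +
      Nat.card (Subgroup.centralizer ({z} : Set G)) * (X * N) := by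
  obtain ⟨hb1, hnot, -⟩ := d.b_type hb hb2 hbQ
  obtain ⟨N, hN, hfar⟩ := d.far_pairs hb hb2 hbQ
  have hof := order_formula z b d.fr.ord (orderOf_two hb2 hb1) hnot fun t ht => by
    by_cases h : IsConj z t
    · exact Or.inl h
    · exact Or.inr (d.isConj_b hb (invol_mul_self ht) (invol_ne_one ht) h)
  rw [d.near_pairs hb hb2 hbQ, hfar] at hof
  refine ⟨_, N, rfl, hN, d.class_incidence hb hb2 hbQ, ?_, hof⟩
  have c1 := card_class_mul z
  have c2 := card_class_mul b
  have hG : 0 < Nat.card G := Nat.card_pos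
  refine Nat.eq_of_mul_eq_mul_left hG ?_
  conv_lhs => rw [hof]
  generalize Nat.card {u : G // IsConj z u} = A at *
  generalize Nat.card {v : G // IsConj b v} = B at *
  generalize Nat.card (Subgroup.centralizer ({z} : Set G)) = C at *
  generalize Nat.card (Subgroup.centralizer ({b} : Set G)) = D at *
  generalize Nat.card G = g at *
  calc (D * 1529280 + C * ((Zset z b).ncard * N)) * (A * B)
      = B * D * (1529280 * A) + A * C * ((Zset z b).ncard * N * B) := by ring
    _ = g * (1529280 * A + (Zset z b).ncard * N * B) := by rw [c1, c2]; ring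

/-- If the class sizes are `20 k` and `15 m` modulo `25` then `m` is `3` modulo `5`. -/
theorem five_count {k m : ℕ} (hk : ¬ 5 ∣ k) (hm : ¬ 5 ∣ m)
    (hz : Nat.card {u : G // IsConj z u} % 25 = 20 * k % 25)
    (hw : Nat.card {v : G // IsConj b v} % 25 = 15 * m % 25) : m % 5 = 3 := by
  obtain ⟨X, N, -, h2, h1, h3, -⟩ := d.thompson_data hb hb2 hbQ
  exact mod_five_count h1 h2 h3 hk hm hz hw

end Duo

end Cfsg.Agent.Lib.SuzType52
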