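import Cfsg.Agent.Lib.SuzTypeCount11.Criteria

/-!
# Suzuki type: the pairs of involutions with `z` in the group of their product

Owner: helper11.
-/

set_option autoImplicit false

namespace Cfsg.Agent.Lib.SuzType52

open Cfsg.Agent.Lib.Involutions.Basic

/-- The fixed points where `b` centralises the lifts. -/
def bad4 : List ℕ := [4, 5, 8, 9]

theorem mem_bad4 (s : ℕ) : s ∈ bad4 ↔ s ∈ fix16 ∧ s ≠ 1 ∧ bn 32 s = false := by
  rw [bad4, ← bad4_points]
  simp [List.mem_filter]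

theorem bad4_spec : ∀ s ∈ bad4, s ∈ sing ∧ ∀ t ∈ bad4, s ≠ t → bn s t = false → s ^^^ t = 1 := by
  decide +kernel

variable {G : Type*} [Group G] [Finite G]

namespace Duo

variable {z : G} {Q : Subgroup G} {co : G → ℕ} {ac : G → ℕ → ℕ} {x n : G}
  (d : Duo z Q co ac x n)
  {b : G} (hb : Form Q co ac n z b 16 32) (hb2 : b * b = 1) (hbQ : b ∉ Q)
include d

/-- The transvections with centres `1` and `s`. -/
theorem Bset_two {s : ℕ} (hs : s ∈ fix16) (hs1 : s ≠ 1) :
    {u ∈ Bset z Q | Cen (ac u) 1 ∧ Cen (ac u) s}.ncard = 8 := by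
  obtain ⟨hss, -, -⟩ := fix16_sing s hs
  have e : {u ∈ Bset z Q | Cen (ac u) 1 ∧ Cen (ac u) s} =
      fset Q co ac n z (pB.filter fun p => decide (s ∈ [1, p.1, p.1 ^^^ 1])) := by
    ext u
    constructor
    · rintro ⟨hu, h1, h2⟩
      obtain ⟨p, hp, hF⟩ := (Set.ext_iff.1 d.Bset_one u).1 ⟨hu, h1⟩
      obtain ⟨ha, -, h0, hq, -⟩ := pB_spec p hp
      refine ⟨p, List.mem_filter.2 ⟨hp, decide_eq_true ?_⟩, hF⟩
      exact (eich_cen_sing _ ha h0 hq s hss).1.1 ((Cen.congr (d.form_commute hF).2 s).1 h2)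
    · rintro ⟨p, hp, hF⟩
      obtain ⟨hp, hps⟩ := List.mem_filter.1 hp
      obtain ⟨ha, -, h0, hq, -⟩ := pB_spec p hp
      obtain ⟨hu, h1⟩ := (Set.ext_iff.1 d.Bset_one u).2 ⟨p, hp, hF⟩
      exact ⟨hu, h1, (Cen.congr (d.form_commute hF).2 s).2
        ((eich_cen_sing _ ha h0 hq s hss).1.2 (of_decide_eq_true hps))⟩
  rw [e, d.ncard_fset _ (pB_nodup.filter _) (fun p hp => by
    have := pB_spec p (List.mem_filter.1 hp).1
    exact ⟨this.1, this.2.1⟩), pB_point_length s hs hs1]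

include hb hb2 in
omit [Finite G] in
theorem b_form_ne {u : G} {p : ℕ × ℕ} (hp : p.1 ∈ v4) (h16 : p.1 ≠ 16)
    (hF : Form Q co ac n z u p.1 p.2) : z ≠ u * b := by
  intro e
  refine h16 (eich_inj hp (show (16 : ℕ) ∈ v4 by decide) fun k hk => ?_)
  have hub : u = z * b := by rw [e, mul_assoc, hb2, mul_one]
  rw [← (d.form_commute hF).2 k hk, ← (d.form_commute hb).2 k hk, hub,
    d.fr.ac_mul (Commute.refl z) (d.form_commute hb).1 hk,
    d.fr.ac_Q d.fr.es.mem (d.fr.ac_lt (d.form_commute hb).1 hk)]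

include hb hb2 in
theorem bad_one :
    {u ∈ Bset z Q | Cen (ac u) 1 ∧ z ∉ Subgroup.zpowers (u * b)} =
      fset Q co ac n z (pB.filter fun p => !(goodP p)) := by
  ext u
  have key : ∀ p ∈ pB, Form Q co ac n z u p.1 p.2 → u * u = 1 →
      (z ∈ Subgroup.zpowers (u * b) ↔ goodP p = true) := by
    intro p hp hF hu2
    have hne := d.b_form_ne hb hb2 (pB_spec p hp).1 (ns4_ne p hp) hF
    rw [d.z_mem_forms (q := (16, 32)) (pB_spec p hp).1 (show (16 : ℕ) ∈ v4 by decide) hF hb hu2 hb2]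
    simp only [goodP, hne, and_false, or_false, Bool.and_eq_true, Bool.not_eq_true']
  constructor
  · rintro ⟨hu, h1, h2⟩
    obtain ⟨p, hp, hF⟩ := (Set.ext_iff.1 d.Bset_one u).1 ⟨hu, h1⟩
    refine ⟨p, List.mem_filter.2 ⟨hp, ?_⟩, hF⟩
    rw [key p hp hF (sq_of_isConj d.fr.zsq d.fr.es.ne hu.1).1] at h2
    simpa using h2
  · rintro ⟨p, hp, hF⟩
    obtain ⟨hp, hg⟩ := List.mem_filter.1 hp
    obtain ⟨hu, h1⟩ := (Set.ext_iff.1 d.Bset_one u).2 ⟨p, hp, hF⟩
    refine ⟨hu, h1, ?_⟩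
    rw [key p hp hF (sq_of_isConj d.fr.zsq d.fr.es.ne hu.1).1]
    simpa using hg

include hb hb2 hbQ in
theorem bad_B : {u ∈ Bset z Q | z ∉ Subgroup.zpowers (u * b)}.ncard = 160 := by
  classical
  set P : Set G := {u | u ∈ Bset z Q ∧ ¬ Cen (ac u) 1 ∧ ∃ s ∈ bad4, Cen (ac u) s} with hP
  have e : {u ∈ Bset z Q | z ∉ Subgroup.zpowers (u * b)} =
      {u ∈ Bset z Q | Cen (ac u) 1 ∧ z ∉ Subgroup.zpowers (u * b)} ∪ P := by
    ext u
    constructor
    · rintro ⟨hu, hn⟩
      by_cases h1 : Cen (ac u) 1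
      · exact Or.inl ⟨hu, h1, hn⟩
      obtain ⟨s, hs, hC⟩ := d.good_or_fix hb hb2 hbQ hu hn
      refine Or.inr ⟨hu, h1, s, (mem_bad4 s).2 ⟨hs, fun e => h1 (e ▸ hC), ?_⟩, hC⟩
      rw [d.fix_good hb hb2 hu h1 hs hC] at hn
      simpa using hn
    · rintro (⟨hu, -, hn⟩ | ⟨hu, h1, s, hs, hC⟩)
      · exact ⟨hu, hn⟩
      · obtain ⟨hs1, -, hs3⟩ := (mem_bad4 s).1 hs
        refine ⟨hu, ?_⟩
        rw [d.fix_good hb hb2 hu h1 hs1 hC, hs3]
        simp
  have hdis : Disjoint {u ∈ Bset z Q | Cen (ac u) 1 ∧ z ∉ Subgroup.zpowers (u * b)} P :=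
    Set.disjoint_left.2 fun u h1 h2 => h2.2.1 h1.2.1
  have hP' : P.ncard = 128 := by
    have hb4 : bad4.Nodup := by decide
    have := incidence P (fun u s => Cen (ac u) s) bad4.toFinset (k := 1) (m := 32)
      (fun u hu => by
        obtain ⟨hu, h1, s, hs, hC⟩ := hu
        refine Finset.card_eq_one.2 ⟨s, Finset.ext fun t => ?_⟩
        simp only [Finset.mem_filter, List.mem_toFinset, Finset.mem_singleton]
        refine ⟨fun ⟨ht, hCt⟩ => ?_, fun e => e ▸ ⟨hs, hC⟩⟩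
        by_contra hne
        obtain ⟨i, hi, j, hj, hij, hne', hbn, hl⟩ := d.Bset_line hu
        have hs' := (bad4_spec s hs).1
        have ht' := (bad4_spec t ht).1
        have key : ∀ p ∈ [i, j, i ^^^ j], ∀ q ∈ [i, j, i ^^^ j], p ≠ q →
            bn p q = false ∧ p ^^^ q ∈ [i, j, i ^^^ j] := by
          obtain ⟨li, -, qi⟩ := mem_sing.1 hi
          obtain ⟨lj, -, qj⟩ := mem_sing.1 hj
          obtain ⟨-, -, qij⟩ := mem_sing.1 hij
          have x1 : i ^^^ (i ^^^ j) = j := by rw [← Nat.xor_assoc, Nat.xor_self, Nat.zero_xor]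
          have x2 : j ^^^ (i ^^^ j) = i := by
            rw [Nat.xor_comm i, ← Nat.xor_assoc, Nat.xor_self, Nat.zero_xor]
          have b2 : bn i (i ^^^ j) = false := by rw [bn, x1, qi, qj, qij]; rfl
          have b3 : bn j (i ^^^ j) = false := by rw [bn, x2, qi, qj, qij]; rfl
          simp only [List.mem_cons, List.not_mem_nil, or_false]
          rintro p (rfl | rfl | rfl) q (rfl | rfl | rfl) hpq <;>
            first
            | exact absurd rfl hpq
            | exact ⟨hbn, Or.inr (Or.inr rfl)⟩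
            | exact ⟨by rw [bn_comm]; exact hbn, Or.inr (Or.inr (Nat.xor_comm _ _))⟩
            | exact ⟨b2, Or.inr (Or.inl x1)⟩
            | exact ⟨by rw [bn_comm]; exact b2, Or.inr (Or.inl (by rw [Nat.xor_comm]; exact x1))⟩
            | exact ⟨b3, Or.inl x2⟩
            | exact ⟨by rw [bn_comm]; exact b3, Or.inl (by rw [Nat.xor_comm]; exact x2)⟩
        obtain ⟨k1, k2⟩ := key s ((hl s hs').1.1 hC) t ((hl t ht').1.1 hCt) (Ne.symm hne)
        rw [(bad4_spec s hs).2 t ht (Ne.symm hne) k1] at k2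
        exact h1 ((hl 1 (by decide)).1.2 k2))
      (fun s hs => by
        rw [List.mem_toFinset] at hs
        obtain ⟨hs1, hs2, -⟩ := (mem_bad4 s).1 hs
        have e' : {u ∈ P | Cen (ac u) s} =
            {u ∈ Bset z Q | Cen (ac u) s} \ {u ∈ Bset z Q | Cen (ac u) 1 ∧ Cen (ac u) s} := by
          ext u
          constructor
          · rintro ⟨⟨hu, h1, -⟩, hC⟩
            exact ⟨⟨hu, hC⟩, fun h => h1 h.2.1⟩
          · rintro ⟨⟨hu, hC⟩, hn⟩
            exact ⟨⟨hu, fun h1 => hn ⟨hu, h1, hC⟩, s, hs, hC⟩, hC⟩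
        have hsub : {u ∈ Bset z Q | Cen (ac u) 1 ∧ Cen (ac u) s} ⊆ {u ∈ Bset z Q | Cen (ac u) s} :=
          fun u hu => ⟨hu.1, hu.2.2⟩
        rw [e', Set.ncard_sdiff hsub, d.Bset_at (bad4_spec s hs).1,
          d.Bset_two hs1 hs2])
    rw [List.toFinset_card_of_nodup hb4, show bad4.length = 4 from rfl] at this
    omega
  rw [e, Set.ncard_union_eq hdis, hP', d.bad_one hb hb2, d.ncard_fset _ (pB_nodup.filter _)
    (fun p hp => by
      have := pB_spec p (List.mem_filter.1 hp).1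
      exact ⟨this.1, this.2.1⟩), pB_bad_length]

omit [Finite G] in
theorem Xset_sing {u : G} (hu : u ∈ Xset z Q) : co u ∈ sing := by
  obtain ⟨hQ, h2, h1, hz⟩ := hu
  refine mem_sing.2 ⟨d.fr.co_lt u hQ, fun e => ?_, ?_⟩
  · rcases d.fr.co_zero u hQ e with e | e
    · exact h1 e
    · exact hz e
  · have e := d.fr.sq u hQ
    rw [h2] at e
    cases h : qn (co u) with
    | false => rfl
    | true => rw [h] at e; exact absurd e.symm d.fr.es.ne

omit [Finite G] in
theorem Xset_two {s : ℕ} (hs : s ∈ sing) : {u ∈ Xset z Q | co u = s}.ncard = 2 := by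
  obtain ⟨l, h0, hq⟩ := mem_sing.1 hs
  obtain ⟨y, hy, hys⟩ := d.fr.co_surj s l
  have hyz : co (y * z) = s := by rw [d.fr.co_mul y hy z d.fr.es.mem, d.fr.co_z, hys, Nat.xor_zero]
  have key : ∀ w ∈ Q, co w = s → w ∈ Xset z Q := fun w hw hws => by
    refine ⟨hw, ?_, fun e => h0 ?_, fun e => h0 ?_⟩
    · rw [d.fr.sq w hw, hws, hq]; rfl
    · rw [← hws, e, d.fr.co_one]
    · rw [← hws, e, d.fr.co_z]
  have e : {u ∈ Xset z Q | co u = s} = {y, y * z} := by
    ext w
    constructor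
    · rintro ⟨hw, hws⟩
      exact d.fr.co_eq hy hw.1 (hys.trans hws.symm)
    · rintro (rfl | rfl)
      · exact ⟨key _ hy hys, hys⟩
      · exact ⟨key _ (mul_mem hy d.fr.es.mem) hyz, hyz⟩
  rw [e, Set.ncard_pair]
  exact fun e => d.fr.es.ne (left_eq_mul.1 e)

include hb hb2 hbQ in
theorem X_good {u : G} (hu : u ∈ Xset z Q) :
    z ∈ Subgroup.zpowers (u * b) ↔ co u ∈ goodK := by
  have hs := d.Xset_sing hu
  obtain ⟨hQ, hu2, hu1, huz⟩ := hu
  have hbz := (d.form_commute hb).1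
  have hk := (d.form_commute hb).2
  have hlt := d.fr.co_lt u hQ
  set k := co u with hkdef
  have hne : z ≠ u * b := fun e => hbQ (by
    have : b = u * z := by rw [e, ← mul_assoc, hu2, one_mul]
    exact this ▸ mul_mem hQ d.fr.es.mem)
  have hu' : b * u * b⁻¹ ∈ Q := d.fr.norm b hbz u hQ
  have hco : co (b * u * b⁻¹) = eich 16 k := by rw [d.fr.conj b hbz u hQ, hk k hlt]
  have hgg : u * b * (u * b) = u * (b * u * b⁻¹) := by rw [inv_eq_of_mul_eq_one_right hb2]; group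
  have hm : co u ∈ goodK ↔ (bif Nat.beq (eich 16 k) k then bn 32 k else qn (eich 16 k ^^^ k)) = true := by
    simp only [goodK, List.mem_filter, hs, true_and, ← hkdef]
  rw [hm]
  by_cases hf : eich 16 k = k
  · have hd : u * b * (u * b) = pw z (bn 32 k) := by
      rw [hgg, d.b_conj_fixed hb hQ rfl hs hf, ← mul_assoc, hu2, one_mul]
    rw [z_mem_iff_sq d.fr.ord hd (by rw [pw_mul d.fr.es.sq, Bool.xor_self]; rfl), hf,
      show Nat.beq k k = true from Nat.beq_refl k, cond_true]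
    cases bn 32 k
    · simp [pw, hne]
    · simp [pw, d.fr.es.ne]
  · have hb' : Nat.beq (eich 16 k) k = false := by
      cases h : Nat.beq (eich 16 k) k
      · rfl
      · exact absurd (Nat.eq_of_beq_eq_true h) hf
    rw [hb', cond_false]
    have hdQ : u * (b * u * b⁻¹) ∈ Q := mul_mem hQ hu'
    have hdk : co (u * (b * u * b⁻¹)) = k ^^^ eich 16 k := by rw [d.fr.co_mul u hQ _ hu', hco]
    have hd2 := d.fr.sq _ hdQ
    rw [hdk, Nat.xor_comm k] at hd2
    have hd0 : u * (b * u * b⁻¹) ≠ 1 ∧ z ≠ u * (b * u * b⁻¹) := by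
      have h0 : ∀ w : G, co w = 0 → w ≠ u * (b * u * b⁻¹) := fun w hw e => hf (by
        rw [e, hdk] at hw
        exact (Nat.eq_of_xor_eq_zero hw).symm)
      exact ⟨(h0 1 d.fr.co_one).symm, h0 z d.fr.co_z⟩
    cases hq : qn (eich 16 k ^^^ k) with
    | false =>
      rw [hq] at hd2
      rw [z_mem_iff_sq d.fr.ord hgg hd2]
      simp [hd0.1, hd0.2]
    | true =>
      rw [hq] at hd2
      have hmem : z ∈ Subgroup.zpowers (u * b) := by
        rw [← show u * (b * u * b⁻¹) * (u * (b * u * b⁻¹)) = z from hd2, ← hgg]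
        exact mul_mem (mul_mem (Subgroup.mem_zpowers _) (Subgroup.mem_zpowers _))
          (mul_mem (Subgroup.mem_zpowers _) (Subgroup.mem_zpowers _))
      simp [hmem]

include hb hb2 hbQ in
/-- The conjugates of `z` in `C(z)` whose product with `b` has `z` as its involution. -/
theorem near_ncard :
    {u | IsConj z u ∧ Commute u z ∧ z ∈ Subgroup.zpowers (u * b)}.ncard = 236 := by
  classical
  have e : {u | IsConj z u ∧ Commute u z ∧ z ∈ Subgroup.zpowers (u * b)} =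
      {u ∈ Xset z Q | z ∈ Subgroup.zpowers (u * b)} ∪
        (Bset z Q \ {u ∈ Bset z Q | z ∉ Subgroup.zpowers (u * b)}) := by
    ext u
    constructor
    · rintro ⟨hconj, huz, hm⟩
      by_cases hQ : u ∈ Q
      · refine Or.inl ⟨⟨hQ, (sq_of_isConj d.fr.zsq d.fr.es.ne hconj).1,
          (sq_of_isConj d.fr.zsq d.fr.es.ne hconj).2, ?_⟩, hm⟩
        intro hu
        rw [hu] at hm
        have hbz := (d.form_commute hb).1
        have hne : z * b ≠ 1 := fun e => hbQ (by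
          rw [eq_inv_of_mul_eq_one_right e]; exact inv_mem d.fr.es.mem)
        have ho : orderOf (z * b) = 2 := orderOf_two (by
          rw [show z * b * (z * b) = z * (b * z) * b by group, hbz.eq, ← mul_assoc, d.fr.es.sq, one_mul,
            hb2]) hne
        have := (z_mem_iff d.fr.ord ho (Subgroup.mem_zpowers _)).1 hm
        exact hbQ (by rw [left_eq_mul.1 this]; exact one_mem Q)
      · exact Or.inr ⟨⟨hconj, huz, hQ⟩, fun h => h.2 hm⟩
    · rintro (⟨hu, hm⟩ | ⟨hu, hn⟩)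
      · exact ⟨d.isConj_Q hu.1 (orderOf_two hu.2.1 hu.2.2.1), d.fr.es.comm u hu.1, hm⟩
      · exact ⟨hu.1, hu.2.1, by_contra fun h => hn ⟨hu, h⟩⟩
  have hdis : Disjoint {u ∈ Xset z Q | z ∈ Subgroup.zpowers (u * b)}
      (Bset z Q \ {u ∈ Bset z Q | z ∉ Subgroup.zpowers (u * b)}) :=
    Set.disjoint_left.2 fun u h1 h2 => h2.1.2.2 h1.1.1
  have hX : {u ∈ Xset z Q | z ∈ Subgroup.zpowers (u * b)}.ncard = 36 := by
    have hn : goodK.Nodup := sing_nodup.filter _
    have := incidence {u ∈ Xset z Q | z ∈ Subgroup.zpowers (u * b)} (fun u s => co u = s)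
      goodK.toFinset (k := 1) (m := 2)
      (fun u hu => Finset.card_eq_one.2 ⟨co u, Finset.ext fun t => by
        have := (d.X_good hb hb2 hbQ hu.1).1 hu.2
        simp only [Finset.mem_filter, List.mem_toFinset, Finset.mem_singleton]
        exact ⟨fun h => h.2.symm, fun h => ⟨h ▸ this, h.symm⟩⟩⟩)
      (fun s hs => by
        rw [List.mem_toFinset] at hs
        rw [← d.Xset_two (s := s) (List.mem_filter.1 hs).1]
        congr 1
        ext u
        exact ⟨fun h => ⟨h.1.1, h.2⟩, fun h => ⟨⟨h.1, (d.X_good hb hb2 hbQ h.1).2 (h.2 ▸ hs)⟩, h.2⟩⟩)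
    rw [List.toFinset_card_of_nodup hn, goodK_length] at this
    omega
  have hsub : {u ∈ Bset z Q | z ∉ Subgroup.zpowers (u * b)} ⊆ Bset z Q := fun u hu => hu.1
  rw [e, Set.ncard_union_eq hdis, hX, Set.ncard_sdiff hsub, d.Bset_ncard,
    d.bad_B hb hb2 hbQ]

end Duo

end Cfsg.Agent.Lib.SuzType52
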