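import Cfsg.Agent.Lib.SuzType52.Main

/-!
# Suzuki type, the count of pairs of involutions: facts on the coded space

Owner: helper11.
-/

set_option autoImplicit false

namespace Cfsg.Agent.Lib.SuzType52

/-- The singular points. -/
def sing : List ℕ := (List.range 64).filter fun k => !(qn k) && decide (k ≠ 0)

theorem mem_sing {k : ℕ} : k ∈ sing ↔ k < 64 ∧ k ≠ 0 ∧ qn k = false := by
  simp [sing, List.mem_filter, and_comm]

theorem sing_nodup : sing.Nodup := List.nodup_range.filter _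

theorem sing_length : sing.length = 27 := by decide +kernel

/-- An action without non-singular displacement. -/
abbrev Tr (f : ℕ → ℕ) : Prop := ∀ k < 64, qn (f k ^^^ k) = false

/-- `s` is a centre of the action `f`. -/
abbrev Cen (f : ℕ → ℕ) (s : ℕ) : Prop :=
  s ∈ sing ∧ ∀ k < 64, bn k s = false → f k = k ∨ f k = k ^^^ s

theorem eich_tr : ∀ a ∈ v4, Tr (eich a) ↔ qn a = false := by decide +kernel

theorem eich_cen_sing : ∀ a ∈ v4, a ≠ 0 → qn a = false → ∀ s ∈ sing,
    (Cen (eich a) s ↔ s ∈ [1, a, a ^^^ 1]) ∧ (eich a s = s ↔ s ∈ [1, a, a ^^^ 1]) := by decide +kernel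

theorem eich_cen_ns : ∀ a ∈ v4, qn a = true → ∀ s ∈ sing, (Cen (eich a) s ↔ s = 1) := by decide +kernel

theorem three_sing : ∀ a ∈ v4, a ≠ 0 → qn a = false →
    1 ∈ sing ∧ a ∈ sing ∧ a ^^^ 1 ∈ sing ∧ a ≠ 1 ∧ a ^^^ 1 ≠ 1 ∧ a ≠ a ^^^ 1 ∧ bn 1 a = false ∧
      bn 1 (a ^^^ 1) = false ∧ bn a (a ^^^ 1) = false ∧ (a ^^^ 1) &&& 60 = a := by decide +kernel

/-- The fixed singular points of the transvection `16`. -/
def fix16 : List ℕ := [1, 4, 5, 8, 9, 28, 29]

theorem mem_fix16 : ∀ s ∈ sing, (eich 16 s = s ↔ s ∈ fix16) := by decide +kernel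

theorem fix16_sing : ∀ s ∈ fix16, s ∈ sing ∧ eich 16 s = s ∧ b1 s = false := by decide +kernel

/-- An invariant totally singular line passes through the point. -/
theorem inv_line : ∀ i ∈ sing, ∀ j ∈ sing, i ≠ j → bn i j = false →
    eich 16 i ∈ [i, j, i ^^^ j] → eich 16 j ∈ [i, j, i ^^^ j] → (1 : ℕ) ∈ [i, j, i ^^^ j] := by
  decide +kernel

/-- Two fixed points on a totally singular line. -/
theorem fix_line : ∀ i ∈ fix16, ∀ j ∈ fix16, i ≠ j → i ≠ 1 → j ≠ 1 → bn i j = false → i ^^^ j = 1 := by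
  decide +kernel

/-- The pairs of parameters of the involutions outside `Q`. -/
def pAll : List (ℕ × ℕ) :=
  (v4.flatMap fun a => v4.map fun v => (a, v)).filter fun p =>
    decide (p.1 ≠ 0) && (bn p.1 p.2 == qn p.1) && (qn p.2 == qn p.1)

/-- The pairs of the transvections. -/
def pB : List (ℕ × ℕ) := pAll.filter fun p => !(qn p.1)

/-- The pairs of the other class. -/
def pW : List (ℕ × ℕ) := pAll.filter fun p => qn p.1

/-- The `x` part of the commutator of two forms. -/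
def gX (p q : ℕ × ℕ) : Bool := Bool.xor (Bool.xor (bn p.1 q.1) (bn p.1 q.2)) (bn q.1 p.2)

/-- The `z` part of the commutator of two forms. -/
def gZ (p q : ℕ × ℕ) : Bool := Bool.xor (Bool.xor (bn p.1 q.2) (bn q.1 p.2)) (bn p.2 q.2)

/-- The commutator with `(16, 32)` is exactly `z`. -/
def goodP (p : ℕ × ℕ) : Bool := !(gX p (16, 32)) && gZ p (16, 32)

/-- The parameters of the involutions of `Z(b)` in `C(z)` other than `z` and `x`, `x z`. -/
def pD : List (ℕ × ℕ) := [(0, 4), (0, 8), (4, 0), (4, 4), (8, 0), (8, 8)]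

theorem pB_spec : ∀ p ∈ pB, p.1 ∈ v4 ∧ p.2 ∈ v4 ∧ p.1 ≠ 0 ∧ qn p.1 = false ∧
    (p.2 = 0 ∨ p.2 = p.1) ∧ bn p.1 p.2 = false ∧ qn p.2 = false := by decide +kernel

theorem pW_spec : ∀ p ∈ pW, p.1 ∈ v4 ∧ p.2 ∈ v4 ∧ p.1 ≠ 0 ∧ qn p.1 = true ∧
    bn p.1 p.2 = true ∧ qn p.2 = true := by decide +kernel

theorem pB_nodup : pB.Nodup := by decide +kernel

theorem pW_nodup : pW.Nodup := by decide +kernel

theorem pB_length : pB.length = 10 := by decide +kernel

theorem pW_length : pW.length = 60 := by decide +kernel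

theorem pB_bad_length : (pB.filter fun p => !(goodP p)).length = 8 := by decide +kernel

theorem pB_point_length : ∀ s ∈ fix16, s ≠ 1 →
    (pB.filter fun p => decide (s ∈ [1, p.1, p.1 ^^^ 1])).length = 2 := by decide +kernel

theorem pB_commute : ∀ p ∈ pB, gX p (16, 32) = false → gZ p (16, 32) = false → bn 16 p.1 = false := by
  decide +kernel

theorem pB_line_fixed : ∀ p ∈ pB, bn 16 p.1 = false →
    1 ∈ fix16 ∧ p.1 ∈ fix16 ∧ p.1 ^^^ 1 ∈ fix16 := by decide +kernel

/-- Two transvections of one point with different parameters. -/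
theorem pB_com : ∀ p ∈ pB, ∀ q ∈ pB, p.1 ≠ q.1 →
    ((p.2 = 0 ↔ q.2 = 0) → gX p q = true) ∧
      (¬(p.2 = 0 ↔ q.2 = 0) → gX p q = false ∧ gZ p q = true) := by decide +kernel

theorem pD_spec : ∀ p ∈ pD, p.1 ∈ v4 ∧ p.2 ∈ v4 ∧ (p.1 ≠ 0 ∨ p.2 ≠ 0) ∧
    (p ∈ pB ∨ (p.1 = 0 ∧ qn p.2 = false)) ∧ gX p (16, 32) = false ∧ gZ p (16, 32) = false := by
  decide +kernel

theorem pD_nodup : pD.Nodup := by decide +kernel

theorem pD_length : pD.length = 6 := by decide +kernel

theorem pD_of_pB : ∀ p ∈ pB, gX p (16, 32) = false → gZ p (16, 32) = false → p ∈ pD := by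
  decide +kernel

theorem pD_of_Q : ∀ v ∈ v4, v ≠ 0 → qn v = false → gZ (0, v) (16, 32) = false →
    gX (0, v) (16, 32) = false → (0, v) ∈ pD := by
  decide +kernel

theorem pD_pairs :
    ((pD.flatMap fun p => pD.map fun q => (p, q)).filter fun pq =>
      !(gX pq.1 pq.2) && gZ pq.1 pq.2).length = 6 := by decide +kernel

theorem gZ_point : ∀ p ∈ pD, gX (0, 0) p = false ∧ gZ (0, 0) p = false ∧
    gX p (0, 0) = false ∧ gZ p (0, 0) = false := by decide +kernel

/-- The singular points of `Q` giving pairs with `z`. -/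
def goodK : List ℕ :=
  sing.filter fun k => bif Nat.beq (eich 16 k) k then bn 32 k else qn (eich 16 k ^^^ k)

theorem goodK_length : goodK.length = 18 := by decide +kernel

theorem bad4_points : (fix16.filter fun s => decide (s ≠ 1) && !(bn 32 s)) = [4, 5, 8, 9] := by
  decide +kernel

theorem sing_fixed_b1 : ∀ k ∈ sing, eich 16 k = k → b1 k = false ∧ bn 16 (k &&& 60) = false ∧
    bn 32 (k &&& 60) = bn 32 k := by decide +kernel

theorem v4_sing : ∀ v ∈ v4, v ≠ 0 → qn v = false → v ∈ sing ∧ v ^^^ 1 ∈ sing := by decide +kernel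

end Cfsg.Agent.Lib.SuzType52
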