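import Cfsg.Agent.Lib.SuzTypeCount11.Forms

/-!
# Suzuki type: the two classes in `C(z)` by centres, and their numbers

Owner: helper11.
-/

set_option autoImplicit false

namespace Cfsg.Agent.Lib.SuzType52

variable {G : Type*} [Group G] {z : G} {Q : Subgroup G} {co : G → ℕ} {ac : G → ℕ → ℕ}

/-- The conjugates of `z` in `C(z)` outside `Q`. -/
def Bset (z : G) (Q : Subgroup G) : Set G := {u | IsConj z u ∧ Commute u z ∧ u ∉ Q}

/-- The involutions of `Q` other than `z`. -/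
def Xset (z : G) (Q : Subgroup G) : Set G := {u | u ∈ Q ∧ u * u = 1 ∧ u ≠ 1 ∧ u ≠ z}

/-- The involutions of `C(z)` not conjugate to `z`. -/
def Wset (z : G) : Set G := {v | Commute v z ∧ v * v = 1 ∧ v ≠ 1 ∧ ¬ IsConj z v}

theorem Tr.congr {f g : ℕ → ℕ} (h : ∀ k < 64, f k = g k) : Tr f ↔ Tr g :=
  forall₂_congr fun k hk => by rw [h k hk]

theorem Cen.congr {f g : ℕ → ℕ} (h : ∀ k < 64, f k = g k) (s : ℕ) : Cen f s ↔ Cen g s :=
  and_congr_right fun _ => forall₂_congr fun k hk => by rw [h k hk]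

omit [Group G] in
/-- Double counting of an incidence. -/
theorem incidence [Finite G] (S : Set G) (R : G → ℕ → Prop) [∀ u, DecidablePred (R u)] (L : Finset ℕ)
    {k m : ℕ} (h1 : ∀ u ∈ S, (L.filter (R u)).card = k)
    (h2 : ∀ s ∈ L, {u ∈ S | R u s}.ncard = m) : S.ncard * k = L.card * m := by
  classical
  have e := Finset.sum_card_bipartiteAbove_eq_sum_card_bipartiteBelow R
    (s := (Set.toFinite S).toFinset) (t := L)
  have e1 : ∀ u ∈ (Set.toFinite S).toFinset, (Finset.bipartiteAbove R L u).card = k :=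
    fun u hu => h1 u ((Set.Finite.mem_toFinset _).1 hu)
  have e2 : ∀ s ∈ L, (Finset.bipartiteBelow R (Set.toFinite S).toFinset s).card = m := fun s hs => by
    rw [← h2 s hs, ← Set.ncard_coe_finset, Finset.bipartiteBelow, Finset.coe_filter]
    congr 1
    ext u
    simp [Set.Finite.mem_toFinset]
  rw [Finset.sum_congr rfl e1, Finset.sum_congr rfl e2, Finset.sum_const, Finset.sum_const,
    smul_eq_mul, smul_eq_mul, ← Set.ncard_eq_toFinset_card S] at e
  exact e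

theorem sq_of_isConj (hz : z * z = 1) (hz1 : z ≠ 1) {u : G} (h : IsConj z u) : u * u = 1 ∧ u ≠ 1 := by
  obtain ⟨g, rfl⟩ := isConj_iff.1 h
  constructor
  · calc g * z * g⁻¹ * (g * z * g⁻¹) = g * (z * z) * g⁻¹ := by group
      _ = 1 := by rw [hz]; group
  · intro e
    exact hz1 (conj_eq_one_iff.1 e)

namespace Frame

variable (h : Frame z Q co ac)
include h

theorem zsq : z * z = 1 := h.es.sq

theorem tr_conj {c d : G} (hc : Commute c z) (hd : Commute d z) (ht : Tr (ac c)) :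
    Tr (ac (d * c * d⁻¹)) := by
  intro k hk
  have hk' := h.ac_lt hd.inv_left hk
  rw [h.ac_conj hc hd hk]
  conv_lhs => arg 1; arg 2; rw [← h.ac_inv' hd hk]
  rw [← h.ac_xor hd (h.ac_lt hc hk') hk', h.ac_qn hd (xor_lt (h.ac_lt hc hk') hk')]
  exact ht _ hk'

theorem cen_conj {c d : G} (hc : Commute c z) (hd : Commute d z) {s : ℕ} (hs : Cen (ac c) s) :
    Cen (ac (d * c * d⁻¹)) (ac d s) := by
  obtain ⟨h1, h2, h3⟩ := mem_sing.1 hs.1
  refine ⟨mem_sing.2 ⟨h.ac_lt hd h1, fun e => h2 ?_, by rw [h.ac_qn hd h1, h3]⟩, fun k hk hb => ?_⟩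
  · rw [← h.ac_inv hd h1, e, (h.iso hd.inv_left).zero]
  · have hk' := h.ac_lt hd.inv_left hk
    have hb' : bn (ac d⁻¹ k) s = false := by
      rw [← h.ac_inv hd h1, h.ac_bn hd.inv_left hk (h.ac_lt hd h1)]
      exact hb
    rw [h.ac_conj hc hd hk]
    rcases hs.2 _ hk' hb' with e | e <;> rw [e]
    · exact Or.inl (h.ac_inv' hd hk)
    · refine Or.inr ?_
      rw [h.ac_xor hd hk' h1, h.ac_inv' hd hk]

theorem cen_commute {c g : G} (hc : Commute c z) (hg : Commute g z) (hgc : Commute g c) {s : ℕ}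
    (hs : Cen (ac c) s) : Cen (ac c) (ac g s) := by
  have := h.cen_conj hc hg hs
  rwa [hgc.eq, mul_inv_cancel_right] at this

theorem fixed_conj {c d : G} (hc : Commute c z) (hd : Commute d z) {s : ℕ} (hs : s < 64)
    (he : ac c s = s) : ac (d * c * d⁻¹) (ac d s) = ac d s := by
  rw [h.ac_conj hc hd (h.ac_lt hd hs), h.ac_inv hd hs, he]

theorem sing_ac {d : G} (hd : Commute d z) {s : ℕ} (hs : s ∈ sing) : ac d s ∈ sing := by
  obtain ⟨h1, h2, h3⟩ := mem_sing.1 hs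
  refine mem_sing.2 ⟨h.ac_lt hd h1, fun e => h2 ?_, by rw [h.ac_qn hd h1, h3]⟩
  rw [← h.ac_inv hd h1, e, (h.iso hd.inv_left).zero]

theorem ac_inj {d : G} (hd : Commute d z) {i j : ℕ} (hi : i < 64) (hj : j < 64)
    (e : ac d i = ac d j) : i = j := by
  rw [← h.ac_inv hd hi, e, h.ac_inv hd hj]

theorem eich_of_cen {t : G} (ht : Commute t z) (hc : Cen (ac t) 1) : ∃ a ∈ v4, Act ac t a := by
  have h1 : ac t 1 = 1 := by
    rcases hc.2 1 (by norm_num) (by decide) with e | e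
    · exact e
    · exfalso
      exact one_ne_zero (h.ac_inj ht (by norm_num) (by norm_num)
        (e.trans ((Nat.xor_self 1).trans (h.iso ht).zero.symm)))
  refine (h.iso ht).eich_of_radical h1 fun k hk hb => hc.2 k hk ?_
  rw [b1_eq hk]
  exact hb

theorem cls {t : G} (htz : Commute t z) (ht2 : t * t = 1) (htQ : t ∉ Q) :
    ∃ d, Commute d z ∧ ∃ a ∈ v4, a ≠ 0 ∧ Act ac (d * t * d⁻¹) a :=
  h.exists_conj_eich htz
    (fun k hk => by rw [← h.ac_mul htz htz hk, ht2, h.ac_Q (one_mem Q) hk]) htQ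

theorem not_mem_conj {t d : G} (hd : Commute d z) (htQ : t ∉ Q) : d * t * d⁻¹ ∉ Q := fun hm => htQ (by
  have := h.norm d⁻¹ hd.inv_left _ hm
  simpa [mul_assoc] using this)

/-- The centres of a transvection form a totally singular line, its fixed singular points. -/
theorem line {u : G} (huz : Commute u z) (hu2 : u * u = 1) (huQ : u ∉ Q) (htr : Tr (ac u)) :
    ∃ i ∈ sing, ∃ j ∈ sing, i ^^^ j ∈ sing ∧ i ≠ j ∧ bn i j = false ∧ ∀ s ∈ sing,
      (Cen (ac u) s ↔ s ∈ [i, j, i ^^^ j]) ∧ (ac u s = s ↔ s ∈ [i, j, i ^^^ j]) := by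
  obtain ⟨d, hd, a, ha, ha0, hact⟩ := h.cls huz hu2 huQ
  set t := d * u * d⁻¹ with ht
  have htz : Commute t z := (hd.mul_left huz).mul_left hd.inv_left
  have hqa : qn a = false := (eich_tr a ha).1 ((Tr.congr hact).1 (h.tr_conj huz hd htr))
  obtain ⟨s1, s2, s3, n1, -, -, b1a, -⟩ := three_sing a ha ha0 hqa
  have hi := hd.inv_left
  have hu : u = d⁻¹ * t * d⁻¹⁻¹ := by rw [ht]; group
  obtain ⟨l1, -⟩ := mem_sing.1 s1
  obtain ⟨l2, -⟩ := mem_sing.1 s2
  have hx : ac d⁻¹ 1 ^^^ ac d⁻¹ a = ac d⁻¹ (a ^^^ 1) := by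
    rw [← h.ac_xor hi l1 l2, Nat.xor_comm]
  refine ⟨_, h.sing_ac hi s1, _, h.sing_ac hi s2, hx ▸ h.sing_ac hi s3,
    fun e => n1 (h.ac_inj hi l1 l2 e).symm, (h.ac_bn hi l1 l2).trans b1a, fun s hs => ?_⟩
  obtain ⟨ls, -⟩ := mem_sing.1 hs
  obtain ⟨hC, hF⟩ := eich_cen_sing a ha ha0 hqa _ (h.sing_ac hd hs)
  have hm : ac d s ∈ [1, a, a ^^^ 1] ↔ s ∈ [ac d⁻¹ 1, ac d⁻¹ a, ac d⁻¹ 1 ^^^ ac d⁻¹ a] := by
    rw [hx]
    simp only [List.mem_cons, List.not_mem_nil, or_false]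
    have key : ∀ k < 64, (ac d s = k ↔ s = ac d⁻¹ k) := fun k hk =>
      ⟨fun e => by rw [← e, h.ac_inv hd ls], fun e => by rw [e, h.ac_inv' hd hk]⟩
    rw [key 1 l1, key a l2, key _ (mem_sing.1 s3).1]
  constructor
  · rw [← hm, ← hC, ← Cen.congr hact]
    refine ⟨fun hh => h.cen_conj huz hd hh, fun hh => ?_⟩
    have := h.cen_conj htz hi hh
    rwa [← hu, h.ac_inv hd ls] at this
  · rw [← hm, ← hF, ← hact _ (h.ac_lt hd ls)]
    refine ⟨fun hh => h.fixed_conj huz hd ls hh, fun hh => ?_⟩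
    have := h.fixed_conj htz hi (h.ac_lt hd ls) hh
    rwa [← hu, h.ac_inv hd ls] at this

/-- An involution of the other sort has one centre. -/
theorem centre {v : G} (hvz : Commute v z) (hv2 : v * v = 1) (hvQ : v ∉ Q) (hntr : ¬ Tr (ac v)) :
    ∃ i ∈ sing, ∀ s ∈ sing, (Cen (ac v) s ↔ s = i) := by
  obtain ⟨d, hd, a, ha, ha0, hact⟩ := h.cls hvz hv2 hvQ
  set t := d * v * d⁻¹ with ht
  have htz : Commute t z := (hd.mul_left hvz).mul_left hd.inv_left
  have hi := hd.inv_left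
  have hv : v = d⁻¹ * t * d⁻¹⁻¹ := by rw [ht]; group
  have hqa : qn a = true := by
    cases hq : qn a with
    | true => rfl
    | false =>
      refine absurd ?_ hntr
      have := h.tr_conj htz hi ((Tr.congr hact).2 ((eich_tr a ha).2 hq))
      rwa [← hv] at this
  have s1 : (1 : ℕ) ∈ sing := by decide
  refine ⟨_, h.sing_ac hi s1, fun s hs => ?_⟩
  obtain ⟨ls, -⟩ := mem_sing.1 hs
  have hC := eich_cen_ns a ha hqa _ (h.sing_ac hd hs)
  have key : ac d s = 1 ↔ s = ac d⁻¹ 1 :=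
    ⟨fun e => by rw [← e, h.ac_inv hd ls], fun e => by rw [e, h.ac_inv' hd (by norm_num)]⟩
  rw [← key, ← hC, ← Cen.congr hact]
  refine ⟨fun hh => h.cen_conj hvz hd hh, fun hh => ?_⟩
  have := h.cen_conj htz hi hh
  rwa [← hv, h.ac_inv hd ls] at this

/-- A conjugation-stable set has equally many elements at every singular point. -/
theorem ncard_at (S : Set G) (hS : ∀ c, Commute c z → ∀ u ∈ S, c * u * c⁻¹ ∈ S)
    (hz : ∀ u ∈ S, Commute u z) {s : ℕ} (hs : s ∈ sing) :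
    {u ∈ S | Cen (ac u) s}.ncard = {u ∈ S | Cen (ac u) 1}.ncard := by
  obtain ⟨l, h0, hq⟩ := mem_sing.1 hs
  obtain ⟨c, hc, hcs⟩ := h.exists_to_one l h0 hq
  have himg : {u ∈ S | Cen (ac u) 1} = (fun u => c * u * c⁻¹) '' {u ∈ S | Cen (ac u) s} := by
    ext t
    constructor
    · rintro ⟨htS, htC⟩
      refine ⟨c⁻¹ * t * c⁻¹⁻¹, ⟨hS _ hc.inv_left t htS, ?_⟩, by group⟩
      have := h.cen_conj (hz t htS) hc.inv_left htC
      rwa [← hcs, h.ac_inv hc l] at this
    · rintro ⟨u, ⟨huS, huC⟩, rfl⟩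
      exact ⟨hS c hc u huS, hcs ▸ h.cen_conj (hz u huS) hc huC⟩
  rw [himg, Set.ncard_image_of_injective]
  intro a b e
  exact mul_left_cancel (mul_right_cancel e)

theorem Bset_conj : ∀ c, Commute c z → ∀ u ∈ Bset z Q, c * u * c⁻¹ ∈ Bset z Q := fun c hc _ hu =>
  ⟨hu.1.trans (isConj_iff.2 ⟨c, rfl⟩), (hc.mul_left hu.2.1).mul_left hc.inv_left, h.not_mem_conj hc hu.2.2⟩

theorem Wset_conj : ∀ c, Commute c z → ∀ v ∈ Wset z, c * v * c⁻¹ ∈ Wset z := fun c hc v hv => by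
  have := h.es
  obtain ⟨h1, h2, h3, h4⟩ := hv
  refine ⟨(hc.mul_left h1).mul_left hc.inv_left, ?_, fun e => h3 (conj_eq_one_iff.1 e), fun e => h4 ?_⟩
  · calc c * v * c⁻¹ * (c * v * c⁻¹) = c * (v * v) * c⁻¹ := by group
      _ = 1 := by rw [h2]; group
  · exact e.trans (isConj_iff.2 ⟨c, rfl⟩).symm

end Frame

namespace Duo

variable [Finite G] {x n : G} (d : Duo z Q co ac x n)
include d

/-- The conjugates of `z` outside `Q` are the involutions without non-singular displacement. -/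
theorem isConj_iff_tr {t : G} (htz : Commute t z) (ht2 : t * t = 1) (htQ : t ∉ Q) :
    IsConj z t ↔ Tr (ac t) := by
  obtain ⟨c, hc, hcase⟩ := d.classify htz ht2 htQ
  set t' := c * t * c⁻¹ with ht'
  have ht'z : Commute t' z := (hc.mul_left htz).mul_left hc.inv_left
  have ht : t = c⁻¹ * t' * c⁻¹⁻¹ := by rw [ht']; group
  have ht'2 : t' * t' = 1 := by
    calc t' * t' = c * (t * t) * c⁻¹ := by rw [ht']; group
      _ = 1 := by rw [ht2]; group
  have hcc : IsConj t t' := isConj_iff.2 ⟨c, rfl⟩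
  have htr : Tr (ac t) ↔ Tr (ac t') := ⟨fun e => d.fr.tr_conj htz hc e, fun e => by
    have := d.fr.tr_conj ht'z hc.inv_left e
    rwa [← ht] at this⟩
  rcases hcase with hB | hF
  · obtain ⟨a, ha, hact⟩ := d.exists_act hB
    have hq : qn a = false := by
      have e := d.sq_act a ha _ hB hact
      rw [ht'2] at e
      exact d.pw_x_inj (e.symm.trans rfl)
    have h2 : orderOf t' = 2 := by
      have : Fact (Nat.Prime 2) := ⟨Nat.prime_two⟩
      refine orderOf_eq_prime (by rw [pow_two, ht'2]) fun e => d.fr.not_mem_conj hc htQ ?_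
      rw [← ht', e]
      exact one_mem Q
    exact iff_of_true ((d.isConj_B hB h2).trans hcc.symm)
      (htr.2 ((Tr.congr hact).2 ((eich_tr a ha).2 hq)))
  · refine iff_of_false (fun e => d.not_isConj hF ht'2 (d.fr.not_mem_conj hc htQ) (e.trans hcc)) fun e => ?_
    have := (eich_tr 16 (by decide)).1 ((Tr.congr (d.form_commute hF).2).1 (htr.1 e))
    exact absurd this (by decide)

theorem Wset_not_mem {v : G} (hv : v ∈ Wset z) : v ∉ Q := fun hm => hv.2.2.2 (by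
  have : Fact (Nat.Prime 2) := ⟨Nat.prime_two⟩
  exact d.isConj_Q hm (orderOf_eq_prime (by rw [pow_two, hv.2.1]) hv.2.2.1))

omit [Finite G] in
/-- An involution acting as a transvection of the point is a product with parameters in the list. -/
theorem pair_of_act {t : G} {a : ℕ} (htz : Commute t z) (ht2 : t * t = 1) (ha : a ∈ v4) (ha0 : a ≠ 0)
    (hact : Act ac t a) : ∃ p ∈ pAll, p.1 = a ∧ Form Q co ac n z t p.1 p.2 := by
  obtain ⟨u, hu, hua⟩ := d.lift a ha
  set r := u⁻¹ * t with hr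
  have hrQ : r ∈ Q := d.fr.faithful r (hu.2.inv_left.mul_left htz) fun k hk => by
    rw [d.fr.ac_mul hu.2.inv_left htz hk, hact k hk, ← hua k hk, d.fr.ac_inv hu.2 hk]
  have htr : t = u * r := by rw [hr]; group
  have hsq : u * r * u⁻¹ * (u * u) * r = 1 := by rw [← ht2, htr]; group
  have huu : u * u = ee z x (qn a) false := (d.sq_act a ha u hu hua).trans (mul_one _).symm
  have hl := d.fr.co_lt r hrQ
  have hb : b1 (co r) = false := by
    refine eich_shift a ha ha0 _ hl ?_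
    have e := congrArg co hsq
    rw [huu, d.fr.co_mul _ (mul_mem (d.fr.norm u hu.2 r hrQ) (d.ee_mem _ _)) r hrQ,
      d.fr.co_mul _ (d.fr.norm u hu.2 r hrQ) _ (d.ee_mem _ _), d.fr.conj u hu.2 r hrQ, hua _ hl,
      d.co_ee, d.fr.co_one] at e
    rw [Nat.xor_assoc, Nat.xor_comm (co r), ← Nat.xor_assoc]
    exact e
  have hF : Form Q co ac n z t a (co r &&& 60) := ⟨u, r, hu, hua, ⟨hrQ, hb⟩, rfl, htr⟩
  have he := d.form_sq ha hF
  rw [ht2, ← d.ee_zero] at he
  obtain ⟨e1, e2⟩ := d.ee_inj he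
  refine ⟨(a, co r &&& 60), ?_, rfl, hF⟩
  simp only [pAll, List.mem_filter, List.mem_flatMap, List.mem_map, Bool.and_eq_true, decide_eq_true_eq,
    beq_iff_eq]
  refine ⟨⟨a, ha, _, mem_v4 hl, rfl⟩, ⟨ha0, ?_⟩, ?_⟩
  · revert e1; cases bn a (co r &&& 60) <;> cases qn a <;> decide
  · revert e1 e2; cases bn a (co r &&& 60) <;> cases qn a <;> cases qn (co r &&& 60) <;> decide

omit [Finite G] in
theorem pair_invol {t : G} {p : ℕ × ℕ} (ha : p.1 ∈ v4) (h0 : p.1 ≠ 0)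
    (h1 : bn p.1 p.2 = qn p.1) (h2 : qn p.2 = qn p.1) (hF : Form Q co ac n z t p.1 p.2) :
    Commute t z ∧ t * t = 1 ∧ t ∉ Q ∧ Act ac t p.1 := by
  obtain ⟨hz', hk⟩ := d.form_commute hF
  refine ⟨hz', ?_, fun hm => h0 (eich_inj ha (show 0 ∈ v4 by decide) fun k hk' => ?_), hk⟩
  · rw [d.form_sq ha hF, h1, h2, Bool.xor_self]
    exact d.ee_zero
  · rw [← hk k hk', d.fr.ac_Q hm hk', eich_zero hk']

theorem Bset_one : {u ∈ Bset z Q | Cen (ac u) 1} = fset Q co ac n z pB := by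
  ext u
  constructor
  · rintro ⟨⟨hconj, huz, huQ⟩, hcen⟩
    have hu2 := (sq_of_isConj d.fr.zsq d.fr.es.ne hconj).1
    obtain ⟨a, ha, hact⟩ := d.fr.eich_of_cen huz hcen
    have ha0 : a ≠ 0 := fun e => huQ (d.fr.faithful u huz fun k hk => by
      rw [hact k hk, e, eich_zero hk])
    obtain ⟨p, hp, rfl, hF⟩ := d.pair_of_act huz hu2 ha ha0 hact
    have hq := (eich_tr _ ha).1 ((Tr.congr hact).1 ((d.isConj_iff_tr huz hu2 huQ).1 hconj))
    exact ⟨p, List.mem_filter.2 ⟨hp, by rw [hq]; rfl⟩, hF⟩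
  · rintro ⟨p, hp, hF⟩
    obtain ⟨ha, -, h0, hq, -, h1, h2⟩ := pB_spec p hp
    obtain ⟨huz, hu2, huQ, hact⟩ := d.pair_invol ha h0 (by rw [h1, hq]) (by rw [h2, hq]) hF
    refine ⟨⟨(d.isConj_iff_tr huz hu2 huQ).2 ((Tr.congr hact).2 ((eich_tr _ ha).2 hq)), huz, huQ⟩, ?_⟩
    exact (Cen.congr hact 1).2 ((eich_cen_sing _ ha h0 hq 1 (by decide)).1.2 (by simp))

theorem Wset_one : {v ∈ Wset z | Cen (ac v) 1} = fset Q co ac n z pW := by
  ext u
  constructor
  · rintro ⟨hW, hcen⟩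
    obtain ⟨huz, hu2, -, hconj⟩ := id hW
    have huQ := d.Wset_not_mem hW
    obtain ⟨a, ha, hact⟩ := d.fr.eich_of_cen huz hcen
    have ha0 : a ≠ 0 := fun e => huQ (d.fr.faithful u huz fun k hk => by
      rw [hact k hk, e, eich_zero hk])
    obtain ⟨p, hp, rfl, hF⟩ := d.pair_of_act huz hu2 ha ha0 hact
    refine ⟨p, List.mem_filter.2 ⟨hp, ?_⟩, hF⟩
    cases hq : qn p.1 with
    | true => rfl
    | false => exact absurd ((d.isConj_iff_tr huz hu2 huQ).2 ((Tr.congr hact).2 ((eich_tr _ ha).2 hq))) hconj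
  · rintro ⟨p, hp, hF⟩
    obtain ⟨ha, -, h0, hq, h1, h2⟩ := pW_spec p hp
    obtain ⟨huz, hu2, huQ, hact⟩ := d.pair_invol ha h0 (by rw [h1, hq]) (by rw [h2, hq]) hF
    refine ⟨⟨huz, hu2, fun e => huQ (e ▸ one_mem Q), fun e => ?_⟩,
      (Cen.congr hact 1).2 ((eich_cen_ns _ ha hq 1 (by decide)).2 rfl)⟩
    have := (eich_tr _ ha).1 ((Tr.congr hact).1 ((d.isConj_iff_tr huz hu2 huQ).1 e))
    rw [hq] at this
    cases this

theorem Bset_at {s : ℕ} (hs : s ∈ sing) : {u ∈ Bset z Q | Cen (ac u) s}.ncard = 40 := by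
  rw [d.fr.ncard_at _ d.fr.Bset_conj (fun u hu => hu.2.1) hs, d.Bset_one,
    d.ncard_fset _ pB_nodup (fun p hp => ⟨(pB_spec p hp).1, (pB_spec p hp).2.1⟩), pB_length]

theorem Wset_at {s : ℕ} (hs : s ∈ sing) : {v ∈ Wset z | Cen (ac v) s}.ncard = 240 := by
  rw [d.fr.ncard_at _ d.fr.Wset_conj (fun u hu => hu.1) hs, d.Wset_one,
    d.ncard_fset _ pW_nodup (fun p hp => ⟨(pW_spec p hp).1, (pW_spec p hp).2.1⟩), pW_length]

theorem Bset_line {u : G} (hu : u ∈ Bset z Q) :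
    ∃ i ∈ sing, ∃ j ∈ sing, i ^^^ j ∈ sing ∧ i ≠ j ∧ bn i j = false ∧ ∀ s ∈ sing,
      (Cen (ac u) s ↔ s ∈ [i, j, i ^^^ j]) ∧ (ac u s = s ↔ s ∈ [i, j, i ^^^ j]) := by
  obtain ⟨hconj, huz, huQ⟩ := hu
  have hu2 := (sq_of_isConj d.fr.zsq d.fr.es.ne hconj).1
  exact d.fr.line huz hu2 huQ ((d.isConj_iff_tr huz hu2 huQ).1 hconj)

theorem Bset_ncard : (Bset z Q).ncard = 360 := by
  classical
  have := incidence (Bset z Q) (fun u s => Cen (ac u) s) sing.toFinset (k := 3) (m := 40)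
    (fun u hu => by
      obtain ⟨i, hi, j, hj, hij, hne, -, hs⟩ := d.Bset_line hu
      have e : sing.toFinset.filter (fun s => Cen (ac u) s) = {i, j, i ^^^ j} := by
        ext s
        simp only [Finset.mem_filter, List.mem_toFinset, Finset.mem_insert, Finset.mem_singleton]
        constructor
        · rintro ⟨h1, h2⟩
          simpa using (hs s h1).1.1 h2
        · intro h1
          have hm : s ∈ sing := by rcases h1 with rfl | rfl | rfl <;> assumption
          exact ⟨hm, (hs s hm).1.2 (by simpa using h1)⟩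
      rw [e]
      refine Finset.card_eq_three.2 ⟨i, j, i ^^^ j, hne, ?_, ?_, rfl⟩
      · intro e'
        refine (mem_sing.1 hj).2.1 ?_
        calc j = i ^^^ (i ^^^ j) := by rw [← Nat.xor_assoc, Nat.xor_self, Nat.zero_xor]
          _ = 0 := by rw [← e', Nat.xor_self]
      · intro e'
        refine (mem_sing.1 hi).2.1 ?_
        calc i = (i ^^^ j) ^^^ j := by rw [Nat.xor_assoc, Nat.xor_self, Nat.xor_zero]
          _ = 0 := by rw [← e', Nat.xor_self])
    (fun s hs => d.Bset_at (List.mem_toFinset.1 hs))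
  rw [List.toFinset_card_of_nodup sing_nodup, sing_length] at this
  omega

theorem Wset_ncard : (Wset z).ncard = 6480 := by
  classical
  have := incidence (Wset z) (fun u s => Cen (ac u) s) sing.toFinset (k := 1) (m := 240)
    (fun v hv => by
      obtain ⟨hvz, hv2, -, hconj⟩ := id hv
      have hvQ := d.Wset_not_mem hv
      obtain ⟨i, hi, hs⟩ := d.fr.centre hvz hv2 hvQ fun e => hconj ((d.isConj_iff_tr hvz hv2 hvQ).2 e)
      refine Finset.card_eq_one.2 ⟨i, ?_⟩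
      ext s
      simp only [Finset.mem_filter, List.mem_toFinset, Finset.mem_singleton]
      exact ⟨fun h1 => (hs s h1.1).1 h1.2, fun e => ⟨e ▸ hi, (hs s (e ▸ hi)).2 e⟩⟩)
    (fun s hs => d.Wset_at (List.mem_toFinset.1 hs))
  rw [List.toFinset_card_of_nodup sing_nodup, sing_length] at this
  omega

end Duo

end Cfsg.Agent.Lib.SuzType52
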